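import Mathlib
import Cfsg.Agent.Lib.Characters.Complete
import Cfsg.Agent.Lib.Characters.Linear
import Cfsg.Agent.Lib.Induced.Character
import Cfsg.Agent.Lib.Induced.Generalized
import Cfsg.Agent.Lib.SzTori.TICount

/-!
An abelian subgroup containing the centraliser of each of its non-trivial elements:
orbits of its linear characters under the normaliser and the induced functions.
-/

set_option autoImplicit false
set_option linter.unusedSectionVars false

namespace Cfsg.Agent.Lib.SzDegrees

open scoped ComplexConjugate Classical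
open Cfsg.Agent.Lib.Induced.Basic Cfsg.Agent.Lib.Characters.Basic

universe u

/-- `C` is the centraliser of each of its non-trivial elements. -/
def IsCC {G : Type u} [Group G] (C : Subgroup G) : Prop :=
  ∀ c ∈ C, c ≠ 1 → Subgroup.centralizer ({c} : Set G) = C

variable {G : Type u} [Group G] [Fintype G] {C : Subgroup G}

theorem IsCC.comm (hC : IsCC C) (a b : C) : a * b = b * a := by
  by_cases ha : (a : G) = 1
  · rw [show a = 1 from Subtype.ext ha, one_mul, mul_one]
  · have hb : (b : G) ∈ Subgroup.centralizer ({(a : G)} : Set G) := (hC a a.2 ha).symm ▸ b.2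
    exact Subtype.ext (Subgroup.mem_centralizer_iff.1 hb a rfl)

/-- The action of the normaliser by conjugation. -/
def cj (n : Subgroup.normalizer (C : Set G)) : C →* C where
  toFun c := ⟨(n : G)⁻¹ * c * n, (Subgroup.mem_normalizer_iff''.1 n.2 c).1 c.2⟩
  map_one' := Subtype.ext (by simp)
  map_mul' a b := Subtype.ext (by simp [mul_assoc])

theorem coe_cj (n : Subgroup.normalizer (C : Set G)) (c : C) :
    ((cj n c : C) : G) = (n : G)⁻¹ * c * n := rfl

theorem cj_cj (a b : Subgroup.normalizer (C : Set G)) (c : C) : cj a (cj b c) = cj (b * a) c :=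
  Subtype.ext (by simp [coe_cj, mul_assoc])

theorem cj_bijective (n : Subgroup.normalizer (C : Set G)) : Function.Bijective (cj n) := by
  refine Finite.injective_iff_bijective.1 fun a b e => Subtype.ext ?_
  have := congrArg Subtype.val e
  simpa [coe_cj] using this

/-- The conjugate of a linear character. -/
def twist (ν : C →* ℂˣ) (n : Subgroup.normalizer (C : Set G)) : C →* ℂˣ := ν.comp (cj n)

theorem twist_twist (ν : C →* ℂˣ) (a b : Subgroup.normalizer (C : Set G)) :
    twist (twist ν a) b = twist ν (b * a) :=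
  MonoidHom.ext fun c => congrArg ν (cj_cj a b c)

theorem twist_one (ν : C →* ℂˣ) : twist ν 1 = ν :=
  MonoidHom.ext fun c => congrArg ν (Subtype.ext (by simp [coe_cj]))

theorem twist_one_hom (n : Subgroup.normalizer (C : Set G)) : twist (1 : C →* ℂˣ) n = 1 :=
  MonoidHom.ext fun _ => rfl

theorem twist_of_mem (hC : IsCC C) (ν : C →* ℂˣ) {n : Subgroup.normalizer (C : Set G)}
    (hn : (n : G) ∈ C) : twist ν n = ν := by
  refine MonoidHom.ext fun c => congrArg ν ?_
  have := congrArg Subtype.val (hC.comm c ⟨n, hn⟩)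
  exact Subtype.ext (by rw [coe_cj, mul_assoc, show (c : G) * n = n * c from this, inv_mul_cancel_left])

theorem mem_of_twist_eq (hC : IsCC C) {ν : C →* ℂˣ} (hν : ν ≠ 1)
    {n : Subgroup.normalizer (C : Set G)} (h : twist ν n = ν) : (n : G) ∈ C := by
  by_contra hn
  let φ : C → C := fun c => c⁻¹ * cj n c
  have hφ : Function.Injective φ := by
    intro a b e
    by_contra hne
    apply hn
    have hd : cj n (b * a⁻¹) = b * a⁻¹ := by
      have e' : a⁻¹ * cj n a = b⁻¹ * cj n b := e
      rw [map_mul, map_inv]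
      calc cj n b * (cj n a)⁻¹ = b * (b⁻¹ * cj n b) * (cj n a)⁻¹ := by rw [mul_inv_cancel_left]
        _ = b * a⁻¹ := by rw [← e', mul_assoc, mul_assoc, mul_inv_cancel, mul_one]
    set d := b * a⁻¹ with hddef
    have hd1 : (d : G) ≠ 1 := fun z => hne (mul_inv_eq_one.1 (Subtype.ext z : d = 1)).symm
    refine (hC d d.2 hd1).le (Subgroup.mem_centralizer_iff.2 ?_)
    rintro _ rfl
    have := congrArg Subtype.val hd
    rw [coe_cj, mul_assoc, inv_mul_eq_iff_eq_mul] at this
    exact this
  obtain hsurj := (Finite.injective_iff_bijective.1 hφ).2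
  refine hν (MonoidHom.ext fun c => ?_)
  obtain ⟨d, rfl⟩ := hsurj c
  show ν (d⁻¹ * cj n d) = 1
  rw [map_mul, map_inv, show ν (cj n d) = ν d from DFunLike.congr_fun h d, inv_mul_cancel]

noncomputable instance : Fintype (C →* ℂˣ) := Fintype.ofFinite _

/-- The orbit of a linear character under the normaliser. -/
noncomputable def orb (ν : C →* ℂˣ) : Finset (C →* ℂˣ) :=
  Finset.univ.image (twist ν)

theorem self_mem_orb (ν : C →* ℂˣ) : ν ∈ orb ν :=
  Finset.mem_image.2 ⟨1, Finset.mem_univ _, twist_one ν⟩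

theorem mem_orb {ν μ : C →* ℂˣ} : μ ∈ orb ν ↔ ∃ n, twist ν n = μ := by
  simp [orb]

theorem orb_eq {ν μ : C →* ℂˣ} (h : μ ∈ orb ν) : orb μ = orb ν := by
  obtain ⟨n, rfl⟩ := mem_orb.1 h
  ext κ
  simp only [mem_orb, twist_twist]
  constructor
  · rintro ⟨b, rfl⟩; exact ⟨_, rfl⟩
  · rintro ⟨b, rfl⟩; exact ⟨b * n⁻¹, by rw [inv_mul_cancel_right]⟩

theorem one_not_mem_orb {ν : C →* ℂˣ} (hν : ν ≠ 1) : (1 : C →* ℂˣ) ∉ orb ν := by
  intro h
  have h2 := self_mem_orb ν
  rw [← orb_eq h] at h2
  obtain ⟨n, hn⟩ := mem_orb.1 h2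
  exact hν (by rw [← hn, twist_one_hom])

theorem card_fibre (hC : IsCC C) {ν : C →* ℂˣ} (hν : ν ≠ 1) {μ : C →* ℂˣ} (hμ : μ ∈ orb ν) :
    ({n | twist ν n = μ} : Finset (Subgroup.normalizer (C : Set G))).card = Nat.card C := by
  obtain ⟨n₀, rfl⟩ := mem_orb.1 hμ
  rw [Nat.card_eq_fintype_card, ← Finset.card_univ]
  symm
  refine Finset.card_bij (fun (c : C) _ => n₀ * ⟨(c : G), Subgroup.le_normalizer c.2⟩)
    (fun c _ => ?_) (fun a _ b _ e => ?_) (fun n hn => ?_)
  · simp only [Finset.mem_filter, Finset.mem_univ, true_and]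
    rw [← twist_twist, twist_of_mem hC ν (n := ⟨(c : G), Subgroup.le_normalizer c.2⟩) c.2]
  · exact Subtype.ext (congrArg (fun z : Subgroup.normalizer (C : Set G) => (z : G))
      (mul_left_cancel e))
  · simp only [Finset.mem_filter, Finset.mem_univ, true_and] at hn
    have h1 : twist ν (n₀⁻¹ * n) = ν := by
      rw [← twist_twist, hn, twist_twist, inv_mul_cancel, twist_one]
    exact ⟨⟨_, mem_of_twist_eq hC hν h1⟩, Finset.mem_univ _,
      by ext; simp⟩

theorem card_orb_mul (hC : IsCC C) {ν : C →* ℂˣ} (hν : ν ≠ 1) :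
    (orb ν).card * Nat.card C = Nat.card (Subgroup.normalizer (C : Set G)) := by
  rw [Nat.card_eq_fintype_card (α := Subgroup.normalizer (C : Set G)), ← Finset.card_univ,
    Finset.card_eq_sum_card_image (twist ν) Finset.univ]
  exact (Finset.sum_const_nat fun μ hμ => card_fibre hC hν hμ).symm

/-- The sum of the conjugates of a linear character. -/
noncomputable def yfun (O : Finset (C →* ℂˣ)) : C → ℂ := fun c => ∑ μ ∈ O, (μ c : ℂ)

theorem sum_twist (hC : IsCC C) {ν : C →* ℂˣ} (hν : ν ≠ 1) (c : C) :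
    (Nat.card C : ℂ) * yfun (orb ν) c =
      ∑ n : Subgroup.normalizer (C : Set G), (twist ν n c : ℂ) := by
  rw [yfun, Finset.mul_sum, ← Finset.sum_fiberwise_of_maps_to (g := twist ν)
    (fun n _ => Finset.mem_image_of_mem (twist ν) (Finset.mem_univ n))
    (fun n => (twist ν n c : ℂ))]
  refine Finset.sum_congr rfl fun μ hμ => ?_
  rw [Finset.sum_congr rfl fun n hn => by rw [(Finset.mem_filter.1 hn).2], Finset.sum_const,
    card_fibre hC hν hμ, nsmul_eq_mul]

/-- A linear character as a function. -/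
noncomputable def lfun (μ : C →* ℂˣ) : C → ℂ := fun c => (μ c : ℂ)

theorem yfun_eq_sum (O : Finset (C →* ℂˣ)) : yfun O = ∑ μ ∈ O, lfun μ := by
  funext c; simp [yfun, lfun]

theorem classInner_lfun (μ κ : C →* ℂˣ) :
    Cfsg.classInner (lfun μ) (lfun κ) = if μ = κ then 1 else 0 := by
  rw [show lfun μ = (Characters.Linear.linChar μ : C → ℂ) from rfl,
    show lfun κ = (Characters.Linear.linChar κ : C → ℂ) from rfl, classInner_irr]
  exact if_congr Characters.Linear.linChar_injective.eq_iff rfl rfl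

theorem classInner_yfun (μ : C →* ℂˣ) (O : Finset (C →* ℂˣ)) :
    Cfsg.classInner (lfun μ) (yfun O) = if μ ∈ O then 1 else 0 := by
  rw [yfun_eq_sum, classInner_sum_right]
  simp [classInner_lfun]

theorem classInner_yfun' (μ : C →* ℂˣ) (O : Finset (C →* ℂˣ)) :
    Cfsg.classInner (yfun O) (lfun μ) = if μ ∈ O then 1 else 0 := by
  rw [← classInner_conj_symm, classInner_yfun]
  split_ifs <;> simp

/-- The multiplicity of a linear character in the restriction. -/
noncomputable def mult (f : G → ℂ) (μ : C →* ℂˣ) : ℂ :=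
  Cfsg.classInner (fun c : C => f c) (lfun μ)

theorem mult_twist {f : G → ℂ} (hf : Cfsg.IsClassFunction G f) (μ : C →* ℂˣ)
    (n : Subgroup.normalizer (C : Set G)) : mult f (twist μ n) = mult f μ := by
  have he : ∀ c : C, f ((cj n c : C) : G) = f c := fun c => by
    have := hf c (n : G)⁻¹
    rwa [inv_inv] at this
  simp only [mult, Cfsg.classInner, lfun, twist, MonoidHom.coe_comp, Function.comp_apply]
  congr 1
  refine Fintype.sum_equiv (Equiv.ofBijective _ (cj_bijective n)) _ _ fun c => ?_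
  simp [he]

theorem mult_orb {f : G → ℂ} (hf : Cfsg.IsClassFunction G f) {μ κ : C →* ℂˣ} (h : κ ∈ orb μ) :
    mult f κ = mult f μ := by
  obtain ⟨n, rfl⟩ := mem_orb.1 h
  exact mult_twist hf μ n

theorem expand (hC : IsCC C) (φ : C → ℂ) (c : C) :
    φ c = ∑ μ : C →* ℂˣ, Cfsg.classInner φ (lfun μ) * (μ c : ℂ) := by
  have : Fintype (Cfsg.IrrCharacter C) := Fintype.ofFinite _
  have hcf : Cfsg.IsClassFunction C φ := fun g x => by
    rw [hC.comm x g, mul_inv_cancel_right]
  conv_lhs => rw [Characters.Complete.classFunction_eq_sum hcf]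
  simp only [Finset.sum_apply, Pi.smul_apply, smul_eq_mul]
  have hdeg := Characters.Linear.degree_eq_one_of_comm (G := C) hC.comm
  symm
  exact Fintype.sum_bijective Characters.Linear.linChar
    ⟨Characters.Linear.linChar_injective, fun χ => ⟨((Characters.Linear.linEquiv C).symm ⟨χ, hdeg χ⟩),
      congrArg Subtype.val ((Characters.Linear.linEquiv C).apply_symm_apply ⟨χ, hdeg χ⟩)⟩⟩ _ _
    fun μ => rfl

theorem sum_lfun_conj (hC : IsCC C) (c d : C) :
    ∑ μ : C →* ℂˣ, (μ c : ℂ) * conj (μ d : ℂ) = if c = d then (Nat.card C : ℂ) else 0 := by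
  have h := expand hC (fun x => if x = d then (Nat.card C : ℂ) else 0) c
  rw [h]
  refine Finset.sum_congr rfl fun μ _ => ?_
  simp only [Cfsg.classInner, lfun, ite_mul, zero_mul, Finset.sum_ite_eq', Finset.mem_univ, if_true]
  rw [inv_mul_cancel_left₀ natCard_ne_zero, mul_comm]

theorem sum_lfun (hC : IsCC C) {c : C} (hc : c ≠ 1) : ∑ μ : C →* ℂˣ, (μ c : ℂ) = 0 := by
  simpa [hc] using sum_lfun_conj hC c 1

theorem card_dual (hC : IsCC C) : Fintype.card (C →* ℂˣ) = Nat.card C := by
  have h := sum_lfun_conj hC 1 1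
  simp only [map_one, Units.val_one, Finset.sum_const, Finset.card_univ, nsmul_eq_mul,
    mul_one, if_true] at h
  exact_mod_cast h

/-- The function induced from a linear character. -/
noncomputable def xfun (ν : C →* ℂˣ) : G → ℂ := Cfsg.indFun C (lfun ν)

theorem isGen_xfun (ν : C →* ℂˣ) : Cfsg.IsGeneralizedCharacter G (xfun ν) :=
  Induced.Generalized.of_isCharacter
    (Induced.Character.isCharacter_indFun C (Induced.Character.isCharacter_hom ν))

theorem xfun_one (ν : C →* ℂˣ) : xfun ν 1 = (C.index : ℂ) := by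
  rw [xfun, indFun_one]; simp [lfun]

theorem xfun_apply (hC : IsCC C) {ν : C →* ℂˣ} (hν : ν ≠ 1) {c : C} (hc : c ≠ 1) :
    xfun ν (c : G) = yfun (orb ν) c := by
  have hc' : (c : G) ≠ 1 := fun e => hc (Subtype.ext e)
  have hmem : ∀ x : G, x⁻¹ * c * x ∈ C → x ∈ Subgroup.normalizer (C : Set G) := fun x hx => by
    have := SzTori.ti_of_centralizer C hC x⁻¹ c c.2 hc' (by rwa [inv_inv])
    simpa using inv_mem this
  have h : (Nat.card C : ℂ)⁻¹ * ∑ n : Subgroup.normalizer (C : Set G), (twist ν n c : ℂ) =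
      yfun (orb ν) c := by
    rw [← sum_twist hC hν c, inv_mul_cancel_left₀ natCard_ne_zero]
  rw [xfun, indFun_apply]
  refine Eq.trans ?_ h
  congr 1
  rw [← Finset.sum_subset (Finset.subset_univ
      (Finset.univ.filter fun x : G => x ∈ Subgroup.normalizer (C : Set G)))
    fun x _ hx => dif_neg fun hm => hx (Finset.mem_filter.2 ⟨Finset.mem_univ _, hmem x hm⟩),
    Finset.sum_subtype (p := fun x : G => x ∈ Subgroup.normalizer (C : Set G)) _ (fun x => by simp) _]
  refine Finset.sum_congr rfl fun n _ => ?_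
  rw [dif_pos ((Subgroup.mem_normalizer_iff''.1 n.2 c).1 c.2)]
  rfl

theorem yfun_one (O : Finset (C →* ℂˣ)) : yfun O (1 : C) = (O.card : ℂ) := by
  simp [yfun]

end Cfsg.Agent.Lib.SzDegrees
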