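import Mathlib
import Cfsg.Agent.Lib.SzDegrees.CC
import Cfsg.Agent.Lib.Isometry.Inner

/-!
Exceptional characters of a CC-subgroup and the second orthogonality relation on it.
-/

set_option autoImplicit false
set_option linter.unusedSectionVars false

namespace Cfsg.Agent.Lib.SzDegrees

open scoped ComplexConjugate Classical
open Cfsg.Agent.Lib.Induced.Basic Cfsg.Agent.Lib.Characters.Basic

universe u

/-- Two non-zero coefficients. -/
theorem two_term {ι : Type*} [Fintype ι] (c : ι → ℤ) (d : ι → ℤ) (hd : ∀ i, 0 < d i)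
    (h2 : ∑ i, c i ^ 2 = 2) (h0 : ∑ i, c i * d i = 0) :
    ∃ a b, a ≠ b ∧ ∀ i, c i = (if i = a then 1 else 0) - if i = b then 1 else 0 := by
  have hsq : ∀ i, c i = 0 ∨ c i = 1 ∨ c i = -1 := by
    intro i
    have hle : c i ^ 2 ≤ 2 := h2 ▸
      Finset.single_le_sum (f := fun j => c j ^ 2) (fun j _ => sq_nonneg (c j)) (Finset.mem_univ i)
    have : -1 ≤ c i ∧ c i ≤ 1 := by constructor <;> nlinarith
    omega
  set S : Finset ι := Finset.univ.filter fun i => c i ≠ 0 with hS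
  have hmem : ∀ i ∈ S, c i = 1 ∨ c i = -1 := fun i hi =>
    (hsq i).resolve_left (Finset.mem_filter.1 hi).2
  have hcard : S.card = 2 := by
    have : (S.card : ℤ) = 2 := by
      rw [← h2, ← Finset.sum_filter_ne_zero (s := Finset.univ) (f := fun i => c i ^ 2)]
      rw [Finset.sum_congr (s₂ := S) (g := fun _ => (1 : ℤ)) (by ext; simp [hS]) fun i hi => by
        rcases hmem i hi with h | h <;> simp [h]]
      simp
    exact_mod_cast this
  obtain ⟨a, b, hab, hS2⟩ := Finset.card_eq_two.1 hcard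
  have hz : ∀ i, i ≠ a → i ≠ b → c i = 0 := fun i ha hb => by
    by_contra hi
    have : i ∈ S := Finset.mem_filter.2 ⟨Finset.mem_univ i, hi⟩
    rw [hS2] at this
    simp [ha, hb] at this
  have hsum : c a * d a + c b * d b = 0 := by
    rw [← h0, Finset.sum_eq_add a b hab (fun i _ hi => by rw [hz i hi.1 hi.2, zero_mul])
      (fun h => absurd (Finset.mem_univ a) h) (fun h => absurd (Finset.mem_univ b) h)]
  have hda := hd a
  have hdb := hd b
  rcases hmem a (by simp [hS2]) with ha | ha <;> rcases hmem b (by simp [hS2]) with hb | hb <;>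
    rw [ha, hb] at hsum
  · omega
  · refine ⟨a, b, hab, fun i => ?_⟩
    by_cases h1 : i = a
    · subst h1; simp [ha, hab]
    by_cases h2' : i = b
    · subst h2'; simp [hb, h1]
    simp [h1, h2', hz i h1 h2']
  · refine ⟨b, a, hab.symm, fun i => ?_⟩
    by_cases h1 : i = a
    · subst h1; simp [ha, hab]
    by_cases h2' : i = b
    · subst h2'; simp [hb, h1]
    simp [h1, h2', hz i h1 h2']
  · omega

/-- Pairs pairwise sharing exactly one place. -/
theorem pair_family {ι X : Type*} [DecidableEq X] (s : Finset ι) (hs : 2 ≤ s.card) (a b : ι → X)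
    (hab : ∀ i ∈ s, a i ≠ b i)
    (h : ∀ i ∈ s, ∀ j ∈ s, i ≠ j →
      ((if a i = a j then (1 : ℤ) else 0) + if b i = b j then 1 else 0) -
        ((if a i = b j then (1 : ℤ) else 0) + if b i = a j then 1 else 0) = 1) :
    ((∃ x, ∀ i ∈ s, a i = x) ∧ Set.InjOn b s) ∨ ((∃ x, ∀ i ∈ s, b i = x) ∧ Set.InjOn a s) := by
  have key : ∀ i ∈ s, ∀ j ∈ s, i ≠ j → ((a i = a j ∧ b i ≠ b j) ∨ (a i ≠ a j ∧ b i = b j)) := by
    intro i hi j hj hij
    have := h i hi j hj hij
    have := hab i hi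
    have := hab j hj
    by_cases e1 : a i = a j <;> by_cases e2 : b i = b j
    · exfalso; simp_all [eq_comm]
    · exact Or.inl ⟨e1, e2⟩
    · exact Or.inr ⟨e1, e2⟩
    · exfalso
      have := h i hi j hj hij
      simp only [e1, e2, if_false] at this
      split_ifs at this <;> omega
  obtain ⟨i, hi, j, hj, hij⟩ := Finset.one_lt_card.1 (show 1 < s.card by omega)
  rcases key i hi j hj hij with ⟨e, e'⟩ | ⟨e, e'⟩
  · left
    have hall : ∀ k ∈ s, a k = a i := by
      intro k hk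
      by_cases hki : k = i
      · rw [hki]
      rcases key k hk i hi hki with ⟨f, -⟩ | ⟨f, g⟩
      · exact f
      by_cases hkj : k = j
      · rw [hkj]; exact e.symm
      rcases key k hk j hj hkj with ⟨f', -⟩ | ⟨-, g'⟩
      · exact f'.trans e.symm
      · exact absurd (g.symm.trans g') e'
    exact ⟨⟨_, hall⟩, fun k hk l hl hkl => by
      by_contra hne
      rcases key k hk l hl hne with ⟨-, f⟩ | ⟨f, -⟩
      · exact f hkl
      · exact f ((hall k hk).trans (hall l hl).symm)⟩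
  · right
    have hall : ∀ k ∈ s, b k = b i := by
      intro k hk
      by_cases hki : k = i
      · rw [hki]
      rcases key k hk i hi hki with ⟨f, g⟩ | ⟨-, g⟩
      · by_cases hkj : k = j
        · rw [hkj]; exact e'.symm
        rcases key k hk j hj hkj with ⟨f', -⟩ | ⟨-, g'⟩
        · exact absurd (f.symm.trans f') e
        · exact g'.trans e'.symm
      · exact g
    exact ⟨⟨_, hall⟩, fun k hk l hl hkl => by
      by_contra hne
      rcases key k hk l hl hne with ⟨-, f⟩ | ⟨f, -⟩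
      · exact f ((hall k hk).trans (hall l hl).symm)
      · exact f hkl⟩

variable {G : Type u} [Group G] [Fintype G] {C : Subgroup G}

/-- The difference of two induced functions. -/
noncomputable def dfun (ν μ : C →* ℂˣ) : G → ℂ := xfun ν - xfun μ

theorem isGen_dfun (ν μ : C →* ℂˣ) : Cfsg.IsGeneralizedCharacter G (dfun ν μ) :=
  Induced.Generalized.isGen_sub (isGen_xfun ν) (isGen_xfun μ)

theorem dfun_one (ν μ : C →* ℂˣ) : dfun ν μ 1 = 0 := by
  simp [dfun, xfun_one]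

theorem dfun_eq_zero (ν μ : C →* ℂˣ) {g : G} (hg1 : g ≠ 1) (hg : g ∉ SzTori.conjSet C) :
    dfun ν μ g = 0 := by
  have hne : ∀ x : G, x⁻¹ * g * x ∉ C := fun x hx => hg ⟨x, x⁻¹ * g * x, hx,
    fun z => hg1 (by simpa [mul_assoc] using congrArg (fun w => x * w * x⁻¹) z), by group⟩
  simp [dfun, xfun, indFun_eq_zero_of_forall_not_mem C _ hne]

theorem classInner_xfun (ν : C →* ℂˣ) {f : G → ℂ} (hf : Cfsg.IsClassFunction G f) :
    Cfsg.classInner f (xfun ν) = mult f ν :=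
  frobenius_reciprocity' C _ hf

theorem classInner_dfun (ν μ : C →* ℂˣ) {f : G → ℂ} (hf : Cfsg.IsClassFunction G f) :
    Cfsg.classInner f (dfun ν μ) = mult f ν - mult f μ := by
  rw [dfun, classInner_sub_right, classInner_xfun ν hf, classInner_xfun μ hf]

variable (hC : IsCC C) {e : ℕ} (he : ∀ ν : C →* ℂˣ, ν ≠ 1 → (orb ν).card = e)

include hC he

theorem dfun_restrict {ν μ : C →* ℂˣ} (hν : ν ≠ 1) (hμ : μ ≠ 1) :
    (fun c : C => dfun ν μ (c : G)) = yfun (orb ν) - yfun (orb μ) := by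
  funext c
  by_cases hc : c = 1
  · subst hc; simp [dfun_one, yfun_one, he ν hν, he μ hμ]
  · simp [dfun, xfun_apply hC hν hc, xfun_apply hC hμ hc]

theorem inner_dfun (ν μ : C →* ℂˣ) {ν' μ' : C →* ℂˣ} (hν : ν' ≠ 1) (hμ : μ' ≠ 1) :
    Cfsg.classInner (dfun ν' μ') (dfun ν μ) =
      ((if ν ∈ orb ν' then (1 : ℂ) else 0) - if ν ∈ orb μ' then 1 else 0) -
        ((if μ ∈ orb ν' then (1 : ℂ) else 0) - if μ ∈ orb μ' then 1 else 0) := by
  rw [classInner_dfun ν μ (Induced.Generalized.isClassFunction_of_isGen (isGen_dfun ν' μ')),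
    mult, mult, dfun_restrict hC he hν hμ, classInner_sub_left, classInner_sub_left,
    classInner_yfun', classInner_yfun', classInner_yfun', classInner_yfun']

theorem dfun_congr {ν μ : C →* ℂˣ} (hν : ν ≠ 1) (hμ : μ ≠ 1) (h : orb ν = orb μ) :
    dfun ν μ = 0 := by
  refine Isometry.Inner.eq_zero_of_classInner_self ?_
  rw [inner_dfun hC he ν μ hν hμ, h]
  simp

omit hC he in
theorem exists_rep {O : Finset (C →* ℂˣ)} (hO : O ∈ (Finset.univ.erase 1).image orb) :
    ∃ ν : C →* ℂˣ, ν ≠ 1 ∧ orb ν = O := by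
  obtain ⟨ν, hν, rfl⟩ := Finset.mem_image.1 hO
  exact ⟨ν, (Finset.mem_erase.1 hν).1, rfl⟩

theorem dfun_pair {ν μ : C →* ℂˣ} (hν : ν ≠ 1) (hμ : μ ≠ 1) (h : orb ν ≠ orb μ) :
    ∃ a b : Cfsg.IrrCharacter G, a ≠ b ∧ dfun ν μ = (a : G → ℂ) - (b : G → ℂ) := by
  have : Fintype (Cfsg.IrrCharacter G) := Fintype.ofFinite _
  obtain ⟨c, -, hceq, hn⟩ := Isometry.Inner.gen_coeff (isGen_dfun ν μ)
  have h1 : μ ∉ orb ν := fun z => h (orb_eq z).symm
  have h2 : ν ∉ orb μ := fun z => h (orb_eq z)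
  rw [inner_dfun hC he ν μ hν hμ, if_pos (self_mem_orb ν), if_pos (self_mem_orb μ), if_neg h1,
    if_neg h2] at hn
  have hn' : ∑ χ, c χ ^ 2 = 2 := by
    have : ((∑ χ, c χ ^ 2 : ℤ) : ℂ) = ((2 : ℤ) : ℂ) := by rw [← hn]; norm_num
    exact_mod_cast this
  choose d hd0 hd using fun χ : Cfsg.IrrCharacter G => exists_degree_pos χ
  have h0 : ∑ χ, c χ * (d χ : ℤ) = 0 := by
    have := congrFun hceq 1
    simp only [dfun_one, Finset.sum_apply, Pi.smul_apply, smul_eq_mul, hd] at this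
    exact_mod_cast this.symm
  obtain ⟨a, b, hab, hc⟩ := two_term c (fun χ => (d χ : ℤ)) (fun χ => by exact_mod_cast hd0 χ) hn' h0
  refine ⟨a, b, hab, ?_⟩
  rw [hceq]
  simp only [hc, Int.cast_sub, Int.cast_ite, Int.cast_one, Int.cast_zero, sub_smul,
    Finset.sum_sub_distrib, ite_smul, one_smul, zero_smul, Finset.sum_ite_eq', Finset.mem_univ,
    if_true]

/-- The exceptional characters. -/
theorem exists_exceptional (hk : 3 ≤ ((Finset.univ.erase (1 : C →* ℂˣ)).image orb).card) :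
    ∃ (ε : ℤ) (X : Finset (C →* ℂˣ) → Cfsg.IrrCharacter G), (ε = 1 ∨ ε = -1) ∧
      Set.InjOn X ((Finset.univ.erase (1 : C →* ℂˣ)).image orb : Finset _) ∧
      ∀ ν μ : C →* ℂˣ, ν ≠ 1 → μ ≠ 1 →
        dfun ν μ = (ε : ℂ) • ((X (orb ν) : G → ℂ) - (X (orb μ) : G → ℂ)) := by
  set K := (Finset.univ.erase (1 : C →* ℂˣ)).image orb with hK
  obtain ⟨O₀, hO₀⟩ := Finset.card_pos.1 (show 0 < K.card by omega)
  obtain ⟨r₀, hr₀, hr₀o⟩ := exists_rep hO₀
  have hrep : ∀ O, ∃ ν : C →* ℂˣ, O ∈ K → ν ≠ 1 ∧ orb ν = O := fun O =>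
    if hO : O ∈ K then ⟨_, fun _ => (exists_rep hO).choose_spec⟩ else ⟨1, fun h => absurd h hO⟩
  choose rep hrepspec using hrep
  set s := K.erase O₀ with hs
  have hscard : 2 ≤ s.card := by rw [hs, Finset.card_erase_of_mem hO₀]; omega
  have hmem : ∀ {O}, O ∈ s → rep O ≠ 1 ∧ orb (rep O) = O ∧ O ≠ O₀ := fun hO =>
    ⟨(hrepspec _ (Finset.mem_erase.1 hO).2).1, (hrepspec _ (Finset.mem_erase.1 hO).2).2,
      (Finset.mem_erase.1 hO).1⟩
  have hpair : ∀ O, ∃ a b : Cfsg.IrrCharacter G, O ∈ s →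
      a ≠ b ∧ dfun (rep O) r₀ = (a : G → ℂ) - (b : G → ℂ) := by
    intro O
    by_cases hO : O ∈ s
    · obtain ⟨h1, h2, h3⟩ := hmem hO
      obtain ⟨a, b, hab⟩ := dfun_pair hC he h1 hr₀ (by rw [h2, hr₀o]; exact h3)
      exact ⟨a, b, fun _ => hab⟩
    · exact ⟨oneChar G, oneChar G, fun h => absurd h hO⟩
  choose a b hab using hpair
  have hfam := pair_family s hscard a b (fun i hi => (hab i hi).1) fun i hi j hj hij => by
    obtain ⟨hi1, hi2, hi3⟩ := hmem hi
    obtain ⟨hj1, hj2, hj3⟩ := hmem hj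
    have key := inner_dfun hC he (rep j) r₀ hi1 hr₀
    rw [(hab i hi).2, (hab j hj).2, classInner_sub_left, classInner_sub_right, classInner_sub_right,
      classInner_irr, classInner_irr, classInner_irr, classInner_irr] at key
    have n1 : rep j ∉ orb (rep i) := fun z => hij (by rw [← hi2, ← hj2, orb_eq z])
    have n2 : rep j ∉ orb r₀ := fun z => hj3 (by rw [← hj2, ← hr₀o, orb_eq z])
    have n3 : r₀ ∉ orb (rep i) := fun z => hi3 (by rw [← hi2, ← hr₀o, orb_eq z])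
    rw [if_neg n1, if_neg n2, if_neg n3, if_pos (self_mem_orb r₀)] at key
    have key' : ((((if a i = a j then (1 : ℤ) else 0) + if b i = b j then 1 else 0) -
        ((if a i = b j then (1 : ℤ) else 0) + if b i = a j then 1 else 0) : ℤ) : ℂ) = ((1 : ℤ) : ℂ) := by
      push_cast
      linear_combination key
    exact_mod_cast key'
  have hred : ∀ ν : C →* ℂˣ, ν ≠ 1 → orb ν ∈ K ∧
      (orb ν = O₀ → dfun ν r₀ = 0) ∧ (orb ν ∈ s → dfun ν r₀ = dfun (rep (orb ν)) r₀) := by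
    intro ν hν
    refine ⟨Finset.mem_image_of_mem _ (Finset.mem_erase.2 ⟨hν, Finset.mem_univ _⟩),
      fun h => dfun_congr hC he hν hr₀ (h.trans hr₀o.symm), fun h => ?_⟩
    have := dfun_congr hC he hν (hmem h).1 (hmem h).2.1.symm
    simp only [dfun, sub_eq_zero] at this ⊢
    rw [this]
  have finish : ∀ (ε : ℤ) (X : Finset (C →* ℂˣ) → Cfsg.IrrCharacter G),
      (∀ O ∈ s, dfun (rep O) r₀ = (ε : ℂ) • ((X O : G → ℂ) - (X O₀ : G → ℂ))) →
      ∀ ν μ : C →* ℂˣ, ν ≠ 1 → μ ≠ 1 →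
        dfun ν μ = (ε : ℂ) • ((X (orb ν) : G → ℂ) - (X (orb μ) : G → ℂ)) := by
    intro ε X hX ν μ hν hμ
    have one : ∀ κ : C →* ℂˣ, κ ≠ 1 →
        dfun κ r₀ = (ε : ℂ) • ((X (orb κ) : G → ℂ) - (X O₀ : G → ℂ)) := by
      intro κ hκ
      obtain ⟨hK', h0, h1⟩ := hred κ hκ
      by_cases hO : orb κ = O₀
      · rw [h0 hO, hO, sub_self, smul_zero]
      · have hm : orb κ ∈ s := Finset.mem_erase.2 ⟨hO, hK'⟩
        rw [h1 hm, hX _ hm]
    calc dfun ν μ = dfun ν r₀ - dfun μ r₀ := by simp only [dfun]; abel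
      _ = _ := by rw [one ν hν, one μ hμ, ← smul_sub]; congr 1; abel
  have mem : ∀ {P}, P ∈ K → P ≠ O₀ → P ∈ s := fun hP hne => Finset.mem_erase.2 ⟨hne, hP⟩
  have build : ∀ (ε : ℤ) (f : Finset (C →* ℂˣ) → Cfsg.IrrCharacter G) (x : Cfsg.IrrCharacter G),
      (ε = 1 ∨ ε = -1) → Set.InjOn f s → (∀ O ∈ s, f O ≠ x) →
      (∀ O ∈ s, dfun (rep O) r₀ = (ε : ℂ) • ((f O : G → ℂ) - (x : G → ℂ))) →
      ∃ (ε : ℤ) (X : Finset (C →* ℂˣ) → Cfsg.IrrCharacter G), (ε = 1 ∨ ε = -1) ∧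
        Set.InjOn X (K : Set (Finset (C →* ℂˣ))) ∧
        ∀ ν μ : C →* ℂˣ, ν ≠ 1 → μ ≠ 1 →
          dfun ν μ = (ε : ℂ) • ((X (orb ν) : G → ℂ) - (X (orb μ) : G → ℂ)) := by
    intro ε f x hε hf hx hd
    let X : Finset (C →* ℂˣ) → Cfsg.IrrCharacter G := Function.update f O₀ x
    have hX0 : X O₀ = x := Function.update_self _ _ _
    have hXne : ∀ O, O ≠ O₀ → X O = f O := fun O hO => Function.update_of_ne hO _ _
    refine ⟨ε, X, hε, fun O hO O' hO' heq => ?_, finish ε X fun O hO => ?_⟩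
    · by_cases h1 : O = O₀ <;> by_cases h2 : O' = O₀
      · rw [h1, h2]
      · rw [h1, hX0, hXne O' h2] at heq; exact absurd heq.symm (hx O' (mem hO' h2))
      · rw [h2, hX0, hXne O h1] at heq; exact absurd heq (hx O (mem hO h1))
      · rw [hXne O h1, hXne O' h2] at heq; exact hf (mem hO h1) (mem hO' h2) heq
    · rw [hX0, hXne O (hmem hO).2.2]
      exact hd O hO
  rcases hfam with ⟨⟨x, hx⟩, hinj⟩ | ⟨⟨x, hx⟩, hinj⟩
  · exact build (-1) b x (Or.inr rfl) hinj (fun O hO => hx O hO ▸ (hab O hO).1.symm)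
      fun O hO => by rw [(hab O hO).2, hx O hO]; simp
  · exact build 1 a x (Or.inl rfl) hinj (fun O hO => hx O hO ▸ (hab O hO).1)
      fun O hO => by rw [(hab O hO).2, hx O hO]; simp

omit he in
theorem sum_orbits {A : Type*} [AddCommMonoid A] (F : (C →* ℂˣ) → A) :
    ∑ O ∈ (Finset.univ.erase (1 : C →* ℂˣ)).image orb, ∑ μ ∈ O, F μ =
      ∑ μ ∈ Finset.univ.erase (1 : C →* ℂˣ), F μ := by
  rw [← Finset.sum_fiberwise_of_maps_to (g := orb) (fun μ hμ => Finset.mem_image_of_mem orb hμ) F]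
  refine Finset.sum_congr rfl fun O hO => Finset.sum_congr ?_ fun _ _ => rfl
  obtain ⟨ν, hν, rfl⟩ := exists_rep hO
  ext μ
  simp only [Finset.mem_filter, Finset.mem_erase, Finset.mem_univ, and_true]
  exact ⟨fun h => ⟨fun h1 => one_not_mem_orb hν (h1 ▸ h), orb_eq h⟩,
    fun h => h.2 ▸ self_mem_orb μ⟩

theorem card_orbits_mul :
    ((Finset.univ.erase (1 : C →* ℂˣ)).image orb).card * e + 1 = Nat.card C := by
  have h := sum_orbits hC (fun _ : C →* ℂˣ => (1 : ℕ))
  simp only [Finset.sum_const, smul_eq_mul, mul_one] at h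
  rw [Finset.sum_const_nat (m := e) (fun O hO => by
      obtain ⟨ν, hν, rfl⟩ := exists_rep hO; exact he ν hν),
    Finset.card_erase_of_mem (Finset.mem_univ _), Finset.card_univ, card_dual hC] at h
  have : 0 < Nat.card C := Nat.card_pos
  omega

/-- The sum over the orbits of the squared absolute values. -/
theorem sum_yfun_conj {c : C} (hc : c ≠ 1) :
    ∑ O ∈ (Finset.univ.erase (1 : C →* ℂˣ)).image orb, yfun O c * conj (yfun O c) =
      (Nat.card C : ℂ) - e := by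
  have hfix : ∀ n : Subgroup.normalizer (C : Set G), cj n c = c ↔ (n : G) ∈ C := by
    intro n
    refine ⟨fun h => ?_, fun h => ?_⟩
    · refine (hC c c.2 fun z => hc (Subtype.ext z)).le (Subgroup.mem_centralizer_iff.2 ?_)
      rintro _ rfl
      have := congrArg Subtype.val h
      rw [coe_cj, mul_assoc, inv_mul_eq_iff_eq_mul] at this
      exact this
    · exact Subtype.ext (by
        have := congrArg Subtype.val (hC.comm c ⟨n, h⟩)
        rw [coe_cj, mul_assoc, show (c : G) * n = n * c from this, inv_mul_cancel_left])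
  have hNcard : (Finset.univ.filter fun n : Subgroup.normalizer (C : Set G) => cj n c = c).card =
      Nat.card C := by
    rw [Finset.filter_congr fun n _ => hfix n, Nat.card_eq_fintype_card, ← Finset.card_univ]
    refine (Finset.card_bij (fun (d : C) _ => (⟨(d : G), Subgroup.le_normalizer d.2⟩ :
      Subgroup.normalizer (C : Set G))) (fun d _ => by simp) (fun a _ b _ h => ?_) fun n hn => ?_).symm
    · exact Subtype.ext (congrArg (fun z : Subgroup.normalizer (C : Set G) => (z : G)) h)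
    · exact ⟨⟨n, (Finset.mem_filter.1 hn).2⟩, Finset.mem_univ _, rfl⟩
  have hN : (Fintype.card (Subgroup.normalizer (C : Set G)) : ℂ) = e * Nat.card C := by
    have hnt : ∃ ν : C →* ℂˣ, ν ≠ 1 := by
      by_contra hall
      push Not at hall
      have h := sum_lfun hC hc
      rw [Finset.eq_singleton_iff_unique_mem.2 ⟨Finset.mem_univ 1, fun x _ => hall x⟩,
        Finset.sum_singleton] at h
      simp at h
    obtain ⟨ν, hν⟩ := hnt
    rw [← Nat.card_eq_fintype_card, ← card_orb_mul hC hν, he ν hν, Nat.cast_mul]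
  have hne : (Nat.card C : ℂ) ≠ 0 := natCard_ne_zero
  apply mul_left_cancel₀ hne
  have inner : ∀ n : Subgroup.normalizer (C : Set G),
      ∑ μ ∈ Finset.univ.erase (1 : C →* ℂˣ), (μ c : ℂ) * conj ((twist μ n c : ℂˣ) : ℂ) =
        (if cj n c = c then (Nat.card C : ℂ) else 0) - 1 := by
    intro n
    rw [eq_sub_iff_add_eq, ← if_congr (eq_comm (a := c) (b := cj n c)) rfl rfl,
      ← sum_lfun_conj hC c (cj n c), ← Finset.sum_erase_add _ _ (Finset.mem_univ (1 : C →* ℂˣ))]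
    simp [twist]
  calc (Nat.card C : ℂ) *
        ∑ O ∈ (Finset.univ.erase (1 : C →* ℂˣ)).image orb, yfun O c * conj (yfun O c)
      = ∑ O ∈ (Finset.univ.erase (1 : C →* ℂˣ)).image orb, ∑ μ ∈ O,
          (μ c : ℂ) * conj ((Nat.card C : ℂ) * yfun (orb μ) c) := by
        rw [Finset.mul_sum]
        refine Finset.sum_congr rfl fun O hO => ?_
        obtain ⟨ν, hν, rfl⟩ := exists_rep hO
        rw [Finset.sum_congr rfl fun μ hμ => by rw [orb_eq hμ], ← Finset.sum_mul, map_mul,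
          map_natCast]
        simp only [yfun]
        ring
    _ = ∑ μ ∈ Finset.univ.erase (1 : C →* ℂˣ),
          (μ c : ℂ) * conj ((Nat.card C : ℂ) * yfun (orb μ) c) :=
        sum_orbits hC fun μ : C →* ℂˣ => (μ c : ℂ) * conj ((Nat.card C : ℂ) * yfun (orb μ) c)
    _ = ∑ n : Subgroup.normalizer (C : Set G), ∑ μ ∈ Finset.univ.erase (1 : C →* ℂˣ),
          (μ c : ℂ) * conj ((twist μ n c : ℂˣ) : ℂ) := by
        rw [Finset.sum_comm]
        refine Finset.sum_congr rfl fun μ hμ => ?_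
        rw [sum_twist hC (Finset.mem_erase.1 hμ).1, map_sum, Finset.mul_sum]
    _ = _ := by
        rw [Finset.sum_congr rfl fun n _ => inner n, Finset.sum_sub_distrib, Finset.sum_const,
          Finset.card_univ, nsmul_eq_mul, mul_one, ← Finset.sum_filter, Finset.sum_const, hNcard,
          nsmul_eq_mul, hN]
        ring

/-- Values of the irreducible characters on `C`. -/
theorem exists_structure (hk : 3 ≤ ((Finset.univ.erase (1 : C →* ℂˣ)).image orb).card)
    [Fintype (Cfsg.IrrCharacter G)] :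
    ∃ (ε d : ℤ) (f : ℕ) (A : Finset (Cfsg.IrrCharacter G)) (dd : Cfsg.IrrCharacter G → ℤ),
      (ε = 1 ∨ ε = -1) ∧ A.card = ((Finset.univ.erase (1 : C →* ℂˣ)).image orb).card ∧
      (∀ χ ∈ A, (χ : G → ℂ) 1 = f) ∧ ((Nat.card C : ℤ) ∣ (f : ℤ) - (d + ε * e)) ∧
      (∀ χ, χ ∉ A → (∀ c : C, c ≠ 1 → (χ : G → ℂ) (c : G) = dd χ) ∧
        ∀ n : ℕ, (χ : G → ℂ) 1 = n → (Nat.card C : ℤ) ∣ (n : ℤ) - dd χ) ∧
      (∀ χ ∈ A, ∀ z : ℂ, ¬ ∀ c : C, c ≠ 1 → (χ : G → ℂ) (c : G) = z) ∧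
      (∀ χ ∈ A, ∀ χ' ∈ A, (∀ c : C, c ≠ 1 → (χ : G → ℂ) (c : G) = (χ' : G → ℂ) (c : G)) → χ = χ') ∧
      (∀ χ ∈ A, ∀ χ' ∈ A, ∀ g : G, g ≠ 1 → g ∉ SzTori.conjSet C →
        (χ : G → ℂ) g = (χ' : G → ℂ) g) ∧
      ∑ χ ∈ Finset.univ \ A, dd χ ^ 2 = e + 2 * ε * d - (A.card : ℤ) * d ^ 2 := by
  set K := (Finset.univ.erase (1 : C →* ℂˣ)).image orb with hK
  obtain ⟨ε, X, hε, hinj, hX⟩ := exists_exceptional hC he hk
  have hε2 : (ε : ℂ) * ε = 1 := by rcases hε with rfl | rfl <;> simp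
  have horb : ∀ {μ : C →* ℂˣ}, μ ≠ 1 → orb μ ∈ K := fun hμ =>
    Finset.mem_image_of_mem _ (Finset.mem_erase.2 ⟨hμ, Finset.mem_univ _⟩)
  -- multiplicities
  have hnat : ∀ (χ : Cfsg.IrrCharacter G) (μ : C →* ℂˣ), ∃ k : ℕ, mult (χ : G → ℂ) μ = k := fun χ μ =>
    exists_classInner_nat (isCharacter_comp C.subtype (isCharacter_irr χ))
      (isCharacter_irr (Characters.Linear.linChar μ))
  choose M hM using hnat
  have hdiff : ∀ (χ : Cfsg.IrrCharacter G) (ν μ : C →* ℂˣ), ν ≠ 1 → μ ≠ 1 →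
      (M χ ν : ℤ) - M χ μ = ε * ((if χ = X (orb ν) then 1 else 0) -
        if χ = X (orb μ) then 1 else 0) := by
    intro χ ν μ hν hμ
    have h := classInner_dfun ν μ (isClassFunction_irr χ)
    rw [hX ν μ hν hμ, classInner_smul_right, classInner_sub_right, classInner_irr, classInner_irr,
      map_intCast, hM, hM] at h
    have h' : (((M χ ν : ℤ) - M χ μ : ℤ) : ℂ) = ((ε * ((if χ = X (orb ν) then (1 : ℤ) else 0) -
        if χ = X (orb μ) then 1 else 0) : ℤ) : ℂ) := by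
      push_cast
      exact h.symm
    exact_mod_cast h'
  obtain ⟨O₀, hO₀⟩ := Finset.card_pos.1 (show 0 < K.card by omega)
  obtain ⟨μ₀, hμ₀, -⟩ := exists_rep hO₀
  let m' : Cfsg.IrrCharacter G → ℤ := fun χ => M χ μ₀ - ε * if χ = X (orb μ₀) then 1 else 0
  let dd : Cfsg.IrrCharacter G → ℤ := fun χ => (M χ 1 : ℤ) - m' χ
  have hMm : ∀ χ (μ : C →* ℂˣ), μ ≠ 1 →
      (M χ μ : ℤ) = m' χ + ε * if χ = X (orb μ) then 1 else 0 := fun χ μ hμ => by
    simp only [m']; linarith [hdiff χ μ μ₀ hμ hμ₀]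
  -- values
  have hval : ∀ (χ : Cfsg.IrrCharacter G) (c : C), (χ : G → ℂ) (c : G) =
      (m' χ : ℂ) * (∑ μ : C →* ℂˣ, (μ c : ℂ)) + dd χ +
        ε * ∑ O ∈ K, (if χ = X O then 1 else 0) * yfun O c := by
    intro χ c
    have h := expand hC (fun c : C => (χ : G → ℂ) (c : G)) c
    rw [h, ← Finset.sum_erase_add _ _ (Finset.mem_univ (1 : C →* ℂˣ))]
    have e1 : ∀ μ ∈ Finset.univ.erase (1 : C →* ℂˣ),
        Cfsg.classInner (fun c : C => (χ : G → ℂ) (c : G)) (lfun μ) * (μ c : ℂ) =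
          (m' χ : ℂ) * (μ c : ℂ) + ε * ((if χ = X (orb μ) then 1 else 0) * (μ c : ℂ)) := by
      intro μ hμ
      rw [show Cfsg.classInner (fun c : C => (χ : G → ℂ) (c : G)) (lfun μ) = mult (χ : G → ℂ) μ
        from rfl, hM, show ((M χ μ : ℕ) : ℂ) = ((M χ μ : ℤ) : ℂ) by simp,
        hMm χ μ (Finset.mem_erase.1 hμ).1]
      push_cast
      ring
    rw [Finset.sum_congr rfl e1, Finset.sum_add_distrib, ← Finset.mul_sum, ← Finset.mul_sum,
      ← sum_orbits hC fun μ : C →* ℂˣ => (if χ = X (orb μ) then (1 : ℂ) else 0) * (μ c : ℂ),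
      ← Finset.sum_erase_add _ _ (Finset.mem_univ (1 : C →* ℂˣ)),
      show Cfsg.classInner (fun c : C => (χ : G → ℂ) (c : G)) (lfun (1 : C →* ℂˣ)) =
        mult (χ : G → ℂ) 1 from rfl, hM]
    rw [Finset.sum_congr rfl (g := fun O => (if χ = X O then (1 : ℂ) else 0) * yfun O c) fun O hO => by
      obtain ⟨ν, hν, rfl⟩ := exists_rep hO
      rw [yfun, Finset.mul_sum]
      exact Finset.sum_congr rfl fun μ hμ => by rw [orb_eq hμ]]
    simp only [dd, MonoidHom.one_apply, Units.val_one]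
    push_cast
    ring
  set A := K.image X with hA
  have hAcard : A.card = K.card := Finset.card_image_of_injOn hinj
  have hnot : ∀ χ, χ ∉ A → ∀ c : C, (∑ O ∈ K, (if χ = X O then (1 : ℂ) else 0) * yfun O c) = 0 :=
    fun χ hχ c => Finset.sum_eq_zero fun O hO => by
      rw [if_neg (show ¬ χ = X O from fun h => hχ (by rw [h]; exact Finset.mem_image_of_mem X hO)),
        zero_mul]
  have hyes : ∀ O ∈ K, ∀ c : C,
      (∑ P ∈ K, (if X O = X P then (1 : ℂ) else 0) * yfun P c) = yfun O c := fun O hO c => by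
    rw [Finset.sum_eq_single O (fun P hP hne => by
      rw [if_neg fun h => hne (hinj hP hO h.symm), zero_mul]) (fun h => absurd hO h), if_pos rfl,
      one_mul]
  have hvalA : ∀ O ∈ K, ∀ c : C, c ≠ 1 → (X O : G → ℂ) (c : G) = dd (X O) + ε * yfun O c := by
    intro O hO c hc
    rw [hval, sum_lfun hC hc, mul_zero, zero_add, hyes O hO]
  have hdfun : ∀ (ν μ : C →* ℂˣ), ν ≠ 1 → μ ≠ 1 → ∀ g : G,
      (X (orb ν) : G → ℂ) g - (X (orb μ) : G → ℂ) g = (ε : ℂ) * dfun ν μ g := by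
    intro ν μ hν hμ g
    rw [hX ν μ hν hμ, Pi.smul_apply, Pi.sub_apply, smul_eq_mul, ← mul_assoc, hε2, one_mul]
  obtain ⟨c₀, hc₀⟩ : ∃ c : C, c ≠ 1 := by
    by_contra hall
    push Not at hall
    apply hμ₀
    exact MonoidHom.ext fun c => by rw [hall c, map_one, MonoidHom.one_apply]
  have hddA : ∀ O ∈ K, dd (X O) = dd (X O₀) := by
    intro O hO
    obtain ⟨ν, hν, rfl⟩ := exists_rep hO
    obtain ⟨μ, hμ, rfl⟩ := exists_rep hO₀
    have h := hdfun ν μ hν hμ (c₀ : G)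
    rw [hvalA _ hO c₀ hc₀, hvalA _ hO₀ c₀ hc₀,
      congrFun (dfun_restrict hC he hν hμ) c₀, Pi.sub_apply] at h
    have : ((dd (X (orb ν)) : ℤ) : ℂ) = ((dd (X (orb μ)) : ℤ) : ℂ) := by linear_combination h
    exact_mod_cast this
  choose D hD0 hD using fun χ : Cfsg.IrrCharacter G => exists_degree_pos χ
  have hdegA : ∀ O ∈ K, D (X O) = D (X O₀) := by
    intro O hO
    obtain ⟨ν, hν, rfl⟩ := exists_rep hO
    obtain ⟨μ, hμ, rfl⟩ := exists_rep hO₀
    have h := hdfun ν μ hν hμ 1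
    rw [dfun_one, mul_zero, hD, hD, sub_eq_zero] at h
    exact_mod_cast h
  have hsum1 : (∑ μ : C →* ℂˣ, ((μ 1 : ℂˣ) : ℂ)) = (Nat.card C : ℂ) := by
    simp [card_dual hC]
  have hKmem : ∀ χ ∈ A, ∃ O ∈ K, X O = χ := fun χ hχ => Finset.mem_image.1 hχ
  refine ⟨ε, dd (X O₀), D (X O₀), A, dd, hε, hAcard, ?_, ?_, ?_, ?_, ?_, ?_, ?_⟩
  · intro χ hχ
    obtain ⟨O, hO, rfl⟩ := hKmem χ hχ
    rw [hD, hdegA O hO]
  · have h := hval (X O₀) 1
    rw [hsum1, hyes O₀ hO₀, yfun_one, OneMemClass.coe_one, hD] at h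
    obtain ⟨ν, hν, hνO⟩ := exists_rep hO₀
    rw [show O₀.card = e by rw [← hνO]; exact he ν hν] at h
    refine ⟨m' (X O₀), ?_⟩
    have : (((D (X O₀) : ℤ) - (dd (X O₀) + ε * e) : ℤ) : ℂ) =
        (((Nat.card C : ℤ) * m' (X O₀) : ℤ) : ℂ) := by
      push_cast
      linear_combination h
    exact_mod_cast this
  · intro χ hχ
    refine ⟨fun c hc => ?_, fun n hn => ?_⟩
    · rw [hval, sum_lfun hC hc, hnot χ hχ c, mul_zero, mul_zero, zero_add, add_zero]
    · have h := hval χ 1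
      rw [hsum1, hnot χ hχ 1, OneMemClass.coe_one, hn, mul_zero, add_zero] at h
      refine ⟨m' χ, ?_⟩
      have : (((n : ℤ) - dd χ : ℤ) : ℂ) = (((Nat.card C : ℤ) * m' χ : ℤ) : ℂ) := by
        push_cast
        linear_combination h
      exact_mod_cast this
  · intro χ hχ z hz
    obtain ⟨O, hO, rfl⟩ := hKmem χ hχ
    obtain ⟨ν, hν, rfl⟩ := exists_rep hO
    have hconst : ∀ μ : C →* ℂˣ, μ ≠ 1 →
        mult (X (orb ν) : G → ℂ) μ = (Nat.card C : ℂ)⁻¹ * ((X (orb ν) : G → ℂ) 1 - z) := by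
      intro μ hμ
      have hs0 : ∑ c : C, conj ((μ c : ℂˣ) : ℂ) = 0 := by
        have h0 := sum_hom_units_eq_zero ((Units.coeHom ℂ).comp μ) fun h =>
          hμ (MonoidHom.ext fun c => Units.ext (DFunLike.congr_fun h c))
        simp only [MonoidHom.coe_comp, Function.comp_apply, Units.coeHom_apply] at h0
        rw [← map_sum, h0, map_zero]
      simp only [mult, Cfsg.classInner, lfun]
      congr 1
      rw [← sub_zero (∑ c : C, _), ← mul_zero z, ← hs0, Finset.mul_sum, ← Finset.sum_sub_distrib,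
        Finset.sum_eq_single 1 (fun c _ hc => by rw [hz c hc, sub_self]) (by simp)]
      simp
    obtain ⟨P, hP, hPO⟩ : ∃ P ∈ K, P ≠ orb ν :=
      Finset.exists_mem_ne (show 1 < K.card by omega) _
    obtain ⟨μ, hμ, rfl⟩ := exists_rep hP
    have h := hdiff (X (orb ν)) ν μ hν hμ
    rw [if_pos rfl, if_neg fun h => hPO (hinj hO hP h).symm] at h
    have h2 := (hM _ ν).symm.trans ((hconst ν hν).trans ((hconst μ hμ).symm.trans (hM _ μ)))
    rw [Nat.cast_inj.1 h2] at h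
    rcases hε with rfl | rfl <;> omega
  · intro χ hχ χ' hχ' heq
    obtain ⟨O, hO, rfl⟩ := hKmem χ hχ
    obtain ⟨P, hP, rfl⟩ := hKmem χ' hχ'
    obtain ⟨ν, hν, rfl⟩ := exists_rep hO
    obtain ⟨μ, hμ, rfl⟩ := exists_rep hP
    have h0 : ∀ c : C, dfun ν μ (c : G) = 0 := by
      intro c
      by_cases hc : c = 1
      · rw [hc]; exact dfun_one ν μ
      · have h := hdfun ν μ hν hμ (c : G)
        rw [heq c hc, sub_self] at h
        rcases hε with rfl | rfl <;> simpa using h.symm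
    have h1 := congrArg (fun f : C → ℂ => Cfsg.classInner f (lfun ν))
      (dfun_restrict hC he hν hμ)
    simp only [h0, classInner_sub_left, classInner_yfun', self_mem_orb, if_true] at h1
    rw [show Cfsg.classInner (fun _ : C => (0 : ℂ)) (lfun ν) = 0 by simp [Cfsg.classInner]] at h1
    split_ifs at h1 with hmem
    · rw [orb_eq hmem]
    · simp at h1
  · intro χ hχ χ' hχ' g hg1 hg
    obtain ⟨O, hO, rfl⟩ := hKmem χ hχ
    obtain ⟨P, hP, rfl⟩ := hKmem χ' hχ'
    obtain ⟨ν, hν, rfl⟩ := exists_rep hO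
    obtain ⟨μ, hμ, rfl⟩ := exists_rep hP
    have h := hdfun ν μ hν hμ g
    rwa [dfun_eq_zero ν μ hg1 hg, mul_zero, sub_eq_zero] at h
  · have hcol := Characters.Complete.sum_irr_mul_conj (c₀ : G) (c₀ : G)
    rw [if_pos (IsConj.refl _), hC c₀ c₀.2 fun z => hc₀ (Subtype.ext z),
      ← Finset.sum_sdiff (Finset.subset_univ A)] at hcol
    rw [Finset.sum_congr rfl (g := fun χ => ((dd χ ^ 2 : ℤ) : ℂ)) fun χ hχ => by
      rw [hval, sum_lfun hC hc₀, hnot χ (Finset.mem_sdiff.1 hχ).2 c₀, mul_zero, mul_zero,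
        zero_add, add_zero, map_intCast, Int.cast_pow, sq]] at hcol
    rw [show ∑ χ ∈ A, (χ : G → ℂ) (c₀ : G) * conj ((χ : G → ℂ) (c₀ : G)) =
        ∑ O ∈ K, ((dd (X O₀) : ℂ) ^ 2 + (ε * dd (X O₀) : ℂ) * (yfun O c₀ + conj (yfun O c₀)) +
          yfun O c₀ * conj (yfun O c₀)) by
      rw [hA, Finset.sum_image hinj]
      refine Finset.sum_congr rfl fun O hO => ?_
      rw [hvalA O hO c₀ hc₀, hddA O hO, map_add, map_mul, map_intCast, map_intCast]
      linear_combination (yfun O c₀ * conj (yfun O c₀)) * hε2] at hcol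
    have hY : ∑ O ∈ K, yfun O c₀ = -1 := by
      have h := sum_orbits hC fun μ : C →* ℂˣ => (μ c₀ : ℂ)
      have h2 := Finset.sum_erase_add _ (fun μ : C →* ℂˣ => (μ c₀ : ℂ)) (Finset.mem_univ (1 : C →* ℂˣ))
      rw [sum_lfun hC hc₀, MonoidHom.one_apply, Units.val_one] at h2
      simp only [yfun]
      linear_combination h + h2
    rw [Finset.sum_add_distrib, Finset.sum_add_distrib, Finset.sum_const, ← Finset.mul_sum,
      Finset.sum_add_distrib, ← map_sum, hY, sum_yfun_conj hC he hc₀, map_neg, map_one,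
      ← hAcard, nsmul_eq_mul] at hcol
    have : ((∑ χ ∈ Finset.univ \ A, dd χ ^ 2 : ℤ) : ℂ) =
        ((e + 2 * ε * dd (X O₀) - (A.card : ℤ) * dd (X O₀) ^ 2 : ℤ) : ℂ) := by
      push_cast
      push_cast at hcol
      linear_combination hcol
    exact_mod_cast this

end Cfsg.Agent.Lib.SzDegrees
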