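import Mathlib
import Cfsg.Agent.Lib.Characters.Linear
import Cfsg.Agent.Lib.Characters.Complete
import Cfsg.Agent.Lib.Induced.Character
import Cfsg.Agent.Lib.Induced.Generalized
import Cfsg.Agent.Lib.SzTori.Count

/-!
The principal series and the Steinberg character of the Suzuki groups.
-/

set_option autoImplicit false
set_option linter.unusedSectionVars false

namespace Cfsg.Agent.Lib.SzDegrees

open scoped ComplexConjugate Classical
open Cfsg.Agent.Lib.Induced.Basic Cfsg.Agent.Lib.Characters.Basic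
open Cfsg.Agent.Lib.LieTwisted.Suzuki Cfsg.Agent.Lib.SzElements.Basic

variable {F : Type*} [Field F] [Fintype F] {m : ℕ}

/-- The Borel subgroup. -/
noncomputable abbrev bor (F : Type*) [Field F] [Fintype F] (m : ℕ) : Subgroup (Cfsg.Sz F m) :=
  MulAction.stabilizer (Cfsg.Sz F m) (Cfsg.suzukiPointInfinity F)

variable (h : IsSzField F m) (hm : 1 ≤ m)
include h hm

theorem exists_coords (g : bor F m) : ∃ e a b, (g : Cfsg.Sz F m) = uS h a b * dS h e := by
  obtain ⟨a, b, e, he⟩ := h.eq_of_fix_none hm (g := (g : Cfsg.Sz F m))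
    (by rw [opt_none]; exact MulAction.mem_stabilizer_iff.1 g.2)
  exact ⟨e, a, b, he⟩

theorem mem_bor_iff {g : Cfsg.Sz F m} :
    g ∈ bor F m ↔ g • opt m (none : Option (F × F)) = opt m none := by
  rw [MulAction.mem_stabilizer_iff, opt_none]

theorem uS_mem_bor (a b : F) : uS h a b ∈ bor F m := (mem_bor_iff h hm).2 (h.uS_smul_none a b)

theorem dS_mem_bor (e : Fˣ) : dS h e ∈ bor F m := (mem_bor_iff h hm).2 (h.dS_smul_none e)

theorem choose_eq {g : bor F m} {a b : F} {e : Fˣ} (hg : (g : Cfsg.Sz F m) = uS h a b * dS h e) :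
    (exists_coords h hm g).choose = e := by
  obtain ⟨x, y, hxy⟩ := (exists_coords h hm g).choose_spec
  exact (h.borel_coords_inj (hg.symm.trans hxy)).2.2.symm

/-- The torus component. -/
noncomputable def tau : bor F m →* Fˣ :=
  MonoidHom.mk' (fun g => (exists_coords h hm g).choose) (by
    intro g k
    obtain ⟨e, a, b, hg⟩ := exists_coords h hm g
    obtain ⟨f, c, d, hk⟩ := exists_coords h hm k
    have hgk : ((g * k : bor F m) : Cfsg.Sz F m) =
        uS h (a + sg m (e : F) * c) (b + sg m (e : F) * (e : F) ^ 2 * d + sg m a * (sg m (e : F) * c)) *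
          dS h (e * f) := by
      rw [Subgroup.coe_mul, hg, hk, mul_assoc, ← mul_assoc (dS h e), h.dS_mul_uS, mul_assoc,
        ← map_mul, ← mul_assoc, h.uS_mul]
    exact (choose_eq h hm hgk).trans
      (congrArg₂ (· * ·) (choose_eq h hm hg).symm (choose_eq h hm hk).symm))

theorem tau_eq {g : bor F m} {a b : F} {e : Fˣ} (hg : (g : Cfsg.Sz F m) = uS h a b * dS h e) :
    tau h hm g = e := choose_eq h hm hg

theorem tau_surjective : Function.Surjective (tau h hm) := fun e =>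
  ⟨⟨dS h e, dS_mem_bor h hm e⟩, tau_eq h hm (a := 0) (b := 0) (by rw [h.uS_zero, one_mul])⟩

/-- The induced characters of the principal series. -/
noncomputable def pifun [Fintype (Cfsg.Sz F m)] (ψ : Fˣ →* ℂˣ) : Cfsg.Sz F m → ℂ :=
  Cfsg.indFun (bor F m) (fun g => ((ψ.comp (tau h hm) g : ℂˣ) : ℂ))

variable [Fintype (Cfsg.Sz F m)]

theorem card_bor : Nat.card (bor F m) = Fintype.card F ^ 2 * (Fintype.card F - 1) :=
  h.card_stabilizer hm

theorem index_bor : (bor F m).index = Fintype.card F ^ 2 + 1 := by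
  have := h.index_normalizer hm
  rwa [h.normalizer_unip hm] at this

theorem pifun_one (ψ : Fˣ →* ℂˣ) : pifun h hm ψ 1 = ((Fintype.card F ^ 2 + 1 : ℕ) : ℂ) := by
  rw [pifun, indFun_one, index_bor h hm]; simp

theorem pifun_eq_zero (ψ : Fˣ →* ℂˣ) {g : Cfsg.Sz F m} (hg : SzTori.InE g) :
    pifun h hm ψ g = 0 :=
  indFun_eq_zero_of_forall_not_mem _ _ fun x hx => SzTori.not_fix_of_inE h hm
    (SzTori.inE_conj h hm x⁻¹ hg) ⟨none, by
      have := (mem_bor_iff h hm).1 hx
      rwa [inv_inv]⟩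

theorem isClassFunction_pifun (ψ : Fˣ →* ℂˣ) :
    Cfsg.IsClassFunction (Cfsg.Sz F m) (pifun h hm ψ) := isClassFunction_indFun _ _

theorem pifun_conj (ψ : Fˣ →* ℂˣ) (g x : Cfsg.Sz F m) :
    pifun h hm ψ (x⁻¹ * g * x) = pifun h hm ψ g := by
  have := isClassFunction_pifun h hm ψ g x⁻¹
  rwa [inv_inv] at this

theorem pifun_unip (ψ : Fˣ →* ℂˣ) {a b : F} (hne : uS h a b ≠ 1) :
    pifun h hm ψ (uS h a b) = 1 := by
  have hne' : ¬ (a = 0 ∧ b = 0) := fun z => hne (by rw [z.1, z.2, h.uS_zero])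
  have hval : ∀ x : Cfsg.Sz F m, (if hx : x⁻¹ * uS h a b * x ∈ bor F m then
      ((ψ.comp (tau h hm) ⟨_, hx⟩ : ℂˣ) : ℂ) else 0) = if x ∈ bor F m then 1 else 0 := by
    intro x
    by_cases hxB : x ∈ bor F m
    · have hx : x⁻¹ * uS h a b * x ∈ bor F m :=
        mul_mem (mul_mem (inv_mem hxB) (uS_mem_bor h hm a b)) hxB
      rw [dif_pos hx, if_pos hxB]
      have : (⟨_, hx⟩ : bor F m) =
          (⟨x, hxB⟩ : bor F m)⁻¹ * ⟨uS h a b, uS_mem_bor h hm a b⟩ * ⟨x, hxB⟩ := rfl
      have hτ : tau h hm ⟨_, hx⟩ = 1 := by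
        rw [this, map_mul, map_mul, map_inv, mul_comm, ← mul_assoc, mul_inv_cancel, one_mul,
          tau_eq h hm (a := a) (b := b) (e := 1) (by rw [map_one, mul_one])]
      rw [MonoidHom.comp_apply, hτ, map_one, Units.val_one]
    · rw [if_neg hxB, dif_neg]
      intro hx
      obtain ⟨p, hp⟩ := h.exists_opt_eq_smul hm x
      have hfix : uS h a b • opt m p = opt m p := by
        have h1 := (mem_bor_iff h hm).1 hx
        rw [mul_smul, mul_smul, inv_smul_eq_iff, hp] at h1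
        exact h1
      rw [fix_point h hne' hfix] at hp
      exact hxB ((mem_bor_iff h hm).2 hp)
  rw [pifun, indFun_apply, Finset.sum_congr rfl fun x _ => hval x, Finset.sum_boole,
    ← Fintype.card_subtype, ← Nat.card_eq_fintype_card]
  exact inv_mul_cancel₀ natCard_ne_zero

theorem wS_not_mem : wS h ∉ bor F m := fun z => by
  rw [mem_bor_iff h hm, h.wS_smul_none] at z
  exact absurd (opt_injective z) (by simp)

theorem pifun_torus (ψ : Fˣ →* ℂˣ) {e : Fˣ} (he : e ≠ 1) :
    pifun h hm ψ (dS h e) = (ψ e : ℂ) + (ψ e⁻¹ : ℂ) := by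
  have key : ∀ (x : Cfsg.Sz F m) (hx : x ∈ bor F m) (f : Fˣ),
      ∃ hy : x⁻¹ * dS h f * x ∈ bor F m, tau h hm ⟨_, hy⟩ = f := by
    intro x hx f
    refine ⟨mul_mem (mul_mem (inv_mem hx) (dS_mem_bor h hm f)) hx, ?_⟩
    rw [show (⟨_, mul_mem (mul_mem (inv_mem hx) (dS_mem_bor h hm f)) hx⟩ : bor F m) =
          (⟨x, hx⟩ : bor F m)⁻¹ * ⟨dS h f, dS_mem_bor h hm f⟩ * ⟨x, hx⟩ from rfl,
      map_mul, map_mul, map_inv, mul_comm, ← mul_assoc, mul_inv_cancel, one_mul]
    exact tau_eq h hm (a := 0) (b := 0) (by rw [h.uS_zero, one_mul])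
  have hw : ∀ x : Cfsg.Sz F m, x⁻¹ * dS h e * x = (wS h * x)⁻¹ * dS h e⁻¹ * (wS h * x) := fun x => by
    rw [mul_inv_rev, h.wS_inv]
    simp only [mul_assoc]
    rw [← mul_assoc (wS h) (dS h e⁻¹), h.wS_mul_dS, inv_inv, mul_assoc, ← mul_assoc (wS h) (wS h),
      h.wS_mul_self, one_mul]
  have hval : ∀ x : Cfsg.Sz F m, (if hx : x⁻¹ * dS h e * x ∈ bor F m then
      ((ψ.comp (tau h hm) ⟨_, hx⟩ : ℂˣ) : ℂ) else 0) =
      (if x ∈ bor F m then (ψ e : ℂ) else 0) + if wS h * x ∈ bor F m then (ψ e⁻¹ : ℂ) else 0 := by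
    intro x
    by_cases h1 : x ∈ bor F m
    · have h2 : wS h * x ∉ bor F m := fun z => wS_not_mem h hm (by
        have := mul_mem z (inv_mem h1)
        rwa [mul_inv_cancel_right] at this)
      obtain ⟨hy, hyv⟩ := key x h1 e
      rw [dif_pos hy, if_pos h1, if_neg h2, add_zero, MonoidHom.comp_apply, hyv]
    · rw [if_neg h1, zero_add]
      by_cases h2 : wS h * x ∈ bor F m
      · obtain ⟨hy, hyv⟩ := key _ h2 e⁻¹
        have hy' : x⁻¹ * dS h e * x ∈ bor F m := (hw x).symm ▸ hy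
        rw [dif_pos hy', if_pos h2, MonoidHom.comp_apply,
          show (⟨_, hy'⟩ : bor F m) = ⟨_, hy⟩ from Subtype.ext (hw x), hyv]
      · rw [if_neg h2, dif_neg]
        intro hx
        obtain ⟨p, hp⟩ := h.exists_opt_eq_smul hm x
        have hfix : dS h e • opt m p = opt m p := by
          have h3 := (mem_bor_iff h hm).1 hx
          rw [mul_smul, mul_smul, inv_smul_eq_iff, hp] at h3
          exact h3
        rcases SzTori.fix_dS h hm he hfix with rfl | rfl
        · exact h1 ((mem_bor_iff h hm).2 hp)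
        · exact h2 ((mem_bor_iff h hm).2 (by rw [mul_smul, hp, h.wS_smul_zero]))
  have hne : (Nat.card (bor F m) : ℂ) ≠ 0 := natCard_ne_zero
  rw [pifun, indFun_apply, Finset.sum_congr rfl fun x _ => hval x, Finset.sum_add_distrib,
    ← Fintype.sum_equiv (Equiv.mulLeft (wS h)) (fun x => if wS h * x ∈ bor F m then (ψ e⁻¹ : ℂ) else 0)
      (fun y => if y ∈ bor F m then (ψ e⁻¹ : ℂ) else 0) (fun x => rfl) |>.symm,
    ← Finset.sum_filter, ← Finset.sum_filter, Finset.sum_const, Finset.sum_const,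
    ← Fintype.card_subtype, ← Nat.card_eq_fintype_card, nsmul_eq_mul, nsmul_eq_mul]
  field_simp

theorem card_tau_ker :
    (Finset.univ.filter fun b : bor F m => tau h hm b = 1).card = Fintype.card F ^ 2 := by
  have h1 := (tau h hm).ker.card_mul_index
  rw [Subgroup.index_ker, MonoidHom.range_eq_top.2 (tau_surjective h hm), Subgroup.card_top,
    Nat.card_units, Nat.card_eq_fintype_card (α := F), card_bor h hm] at h1
  rw [← Nat.eq_of_mul_eq_mul_right (by have := h.two_lt_card hm; omega) h1,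
    Nat.card_eq_fintype_card, ← Fintype.card_subtype]
  exact Fintype.card_congr (Equiv.subtypeEquivRight fun b => MonoidHom.mem_ker.symm)

/-- The values on the Borel subgroup. -/
theorem pifun_bor (ψ : Fˣ →* ℂˣ) (g : bor F m) :
    pifun h hm ψ (g : Cfsg.Sz F m) = (ψ (tau h hm g) : ℂ) + (ψ (tau h hm g)⁻¹ : ℂ) +
      ((if g = 1 then ((Fintype.card F : ℂ) ^ 2) else 0) - if tau h hm g = 1 then 1 else 0) := by
  by_cases hg : g = 1
  · subst hg
    rw [if_pos rfl, map_one, if_pos rfl, OneMemClass.coe_one, pifun_one]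
    simp; ring
  rw [if_neg hg]
  obtain ⟨e, a, b, hab⟩ := exists_coords h hm g
  rw [tau_eq h hm hab]
  by_cases he : e = 1
  · subst he
    rw [map_one, mul_one] at hab
    rw [hab, pifun_unip h hm ψ (fun z => hg (Subtype.ext (hab.trans z))), if_pos rfl]
    simp
  · rw [if_neg he]
    obtain ⟨x, y, hxy⟩ := SzTori.borel_cases h hm (a := a) (b := b) he
    rw [← pifun_conj h hm ψ (g : Cfsg.Sz F m) (uS h x y), hab, hxy, pifun_torus h hm ψ he]
    ring

theorem classInner_pifun (ψ φ : Fˣ →* ℂˣ) :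
    Cfsg.classInner (pifun h hm ψ) (pifun h hm φ) =
      (if ψ = φ then 1 else 0) + if ψ = φ⁻¹ then 1 else 0 := by
  have hlin : ∀ κ : Fˣ →* ℂˣ, ((Nat.card (bor F m) : ℂ)⁻¹ *
      ∑ b : bor F m, (ψ (tau h hm b) : ℂ) * conj (κ (tau h hm b) : ℂ)) =
      if ψ = κ then 1 else 0 := by
    intro κ
    have := classInner_irr (Characters.Linear.linChar (ψ.comp (tau h hm)))
      (Characters.Linear.linChar (κ.comp (tau h hm)))
    refine this.trans (if_congr ?_ rfl rfl)
    rw [Characters.Linear.linChar_injective.eq_iff]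
    exact MonoidHom.cancel_right (tau_surjective h hm)
  have hinv : ∀ x : Fˣ, conj (φ x⁻¹ : ℂ) = (φ x : ℂ) := fun x => by
    have := apply_inv (Induced.Character.isCharacter_hom φ) x
    rw [this, Complex.conj_conj]
  have hinv' : ∀ x : Fˣ, conj ((φ⁻¹ : Fˣ →* ℂˣ) x : ℂ) = (φ x : ℂ) := fun x => by
    rw [MonoidHom.inv_apply, ← map_inv]
    exact hinv x
  rw [pifun, frobenius_reciprocity _ _ (isClassFunction_pifun h hm φ), Cfsg.classInner]
  simp only [MonoidHom.comp_apply]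
  rw [Finset.sum_congr rfl fun b _ => by rw [pifun_bor h hm φ b, map_add, map_add, map_sub,
      mul_add, mul_add, mul_sub, hinv]]
  rw [Finset.sum_add_distrib, Finset.sum_add_distrib, Finset.sum_sub_distrib, mul_add, mul_add,
    ← hlin φ, ← hlin φ⁻¹]
  have e1 : ∑ b : bor F m, (ψ (tau h hm b) : ℂ) *
      conj (if b = 1 then ((Fintype.card F : ℂ) ^ 2) else 0) = (Fintype.card F : ℂ) ^ 2 := by
    rw [Finset.sum_eq_single 1 (fun b _ hb => by rw [if_neg hb, map_zero, mul_zero]) (by simp)]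
    simp
  have e2 : ∑ b : bor F m, (ψ (tau h hm b) : ℂ) * conj (if tau h hm b = 1 then (1 : ℂ) else 0) =
      (Fintype.card F : ℂ) ^ 2 := by
    rw [show (Fintype.card F : ℂ) ^ 2 = ((Fintype.card F ^ 2 : ℕ) : ℂ) by push_cast; rfl,
      ← card_tau_ker h hm, ← Finset.sum_boole]
    refine Finset.sum_congr rfl fun b _ => ?_
    split_ifs with hb <;> simp [hb]
  rw [e1, e2, sub_self, mul_zero, add_zero]
  simp only [hinv']

theorem isGen_pifun (ψ : Fˣ →* ℂˣ) :
    Cfsg.IsGeneralizedCharacter (Cfsg.Sz F m) (pifun h hm ψ) :=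
  Induced.Generalized.of_isCharacter (Induced.Character.isCharacter_indFun _
    (Induced.Character.isCharacter_hom _))

omit h hm in
theorem sum_hom_apply [Fintype (Fˣ →* ℂˣ)] {x : Fˣ} (hx : x ≠ 1) :
    ∑ ψ : Fˣ →* ℂˣ, (ψ x : ℂ) = 0 := by
  obtain ⟨ν, hν⟩ := CommGroup.exists_apply_ne_one_of_hasEnoughRootsOfUnity Fˣ ℂ hx
  refine (mul_left_eq_self₀.1 ?_).resolve_left (fun z => hν (Units.ext z))
  rw [Finset.mul_sum]
  exact Fintype.sum_equiv (Equiv.mulLeft ν) _ _ fun ψ => by simp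

/-- The principal series and the Steinberg character. -/
theorem exists_series :
    ∃ (one st : Cfsg.IrrCharacter (Cfsg.Sz F m)) (P : Finset (Cfsg.IrrCharacter (Cfsg.Sz F m))),
      one ≠ st ∧ one ∉ P ∧ st ∉ P ∧ 2 * P.card + 2 = Fintype.card F ∧
      (∀ g, (one : Cfsg.Sz F m → ℂ) g = 1) ∧
      (st : Cfsg.Sz F m → ℂ) 1 = ((Fintype.card F ^ 2 : ℕ) : ℂ) ∧
      (∀ g, SzTori.InE g → (st : Cfsg.Sz F m → ℂ) g = -1) ∧
      (∀ χ ∈ P, (χ : Cfsg.Sz F m → ℂ) 1 = ((Fintype.card F ^ 2 + 1 : ℕ) : ℂ) ∧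
        ∀ g, SzTori.InE g → (χ : Cfsg.Sz F m → ℂ) g = 0) ∧
      ∀ e : Fˣ, e ≠ 1 →
        ∑ χ ∈ insert one (insert st P), (χ : Cfsg.Sz F m → ℂ) (dS h e) *
          conj ((χ : Cfsg.Sz F m → ℂ) (dS h e)) = (Fintype.card F : ℂ) - 1 := by
  have : Fintype (Fˣ →* ℂˣ) := Fintype.ofFinite _
  have hcardH : Fintype.card (Fˣ →* ℂˣ) = Fintype.card F - 1 := by
    rw [← Nat.card_eq_fintype_card, CommGroup.card_monoidHom_of_hasEnoughRootsOfUnity, Nat.card_units,
      Nat.card_eq_fintype_card]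
  obtain ⟨hq2, hqe⟩ := SzTori.card_facts h hm
  -- no linear character has order two
  have hsq : ∀ ψ : Fˣ →* ℂˣ, ψ⁻¹ = ψ → ψ = 1 := by
    intro ψ hψ
    refine MonoidHom.ext fun x => ?_
    have : CharP F 2 := h.charTwo
    obtain ⟨r, hr⟩ := (Finite.injective_iff_surjective.mp (CharTwo.sq_injective (R := F))) (x : F)
    have hr0 : r ≠ 0 := fun z => x.ne_zero (by rw [← hr, z]; simp)
    rw [show x = Units.mk0 r hr0 * Units.mk0 r hr0 from
      Units.ext (by simp only [Units.val_mul, Units.val_mk0]; rw [← hr]; ring), map_mul]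
    nth_rewrite 1 [← hψ]
    rw [MonoidHom.inv_apply, inv_mul_cancel, MonoidHom.one_apply]
  have hnorm : ∀ ψ : Fˣ →* ℂˣ, ψ ≠ 1 → Cfsg.IsIrrCharacter (Cfsg.Sz F m) ((pifun h hm) ψ) := fun ψ hψ => by
    refine Induced.Generalized.isIrrCharacter_of_norm_one (isGen_pifun h hm ψ) ?_ ?_
    · rw [classInner_pifun, if_pos rfl, if_neg fun z => hψ (hsq ψ z.symm), add_zero]
    · rw [pifun_one, Complex.natCast_re]
      exact_mod_cast Nat.succ_pos _
  let oneC : Cfsg.IrrCharacter (Cfsg.Sz F m) := oneChar (Cfsg.Sz F m)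
  have h1C : Cfsg.classInner ((pifun h hm) 1) (oneC : Cfsg.Sz F m → ℂ) = 1 := by
    rw [pifun, frobenius_reciprocity _ _ (isClassFunction_irr oneC)]
    rw [Cfsg.classInner]
    simp only [MonoidHom.comp_apply, MonoidHom.one_apply, Units.val_one, oneC, oneChar_apply,
      map_one, mul_one, Finset.sum_const, Finset.card_univ, nsmul_eq_mul, ← Nat.card_eq_fintype_card]
    exact inv_mul_cancel₀ natCard_ne_zero
  have hst : Cfsg.IsIrrCharacter (Cfsg.Sz F m) ((pifun h hm) 1 - (oneC : Cfsg.Sz F m → ℂ)) := by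
    refine Induced.Generalized.isIrrCharacter_of_norm_one
      (Induced.Generalized.isGen_sub (isGen_pifun h hm 1)
        (Induced.Generalized.of_isCharacter (isCharacter_irr oneC))) ?_ ?_
    · rw [classInner_sub_left, classInner_sub_right, classInner_sub_right, classInner_pifun,
        ← classInner_conj_symm ((pifun h hm) 1) (oneC : Cfsg.Sz F m → ℂ), h1C, classInner_irr]
      rw [if_pos rfl, if_pos rfl, if_pos (MonoidHom.ext fun x => by simp), map_one]
      ring
    · rw [Pi.sub_apply, pifun_one, oneChar_apply]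
      simp only [Nat.cast_add, Nat.cast_one, add_sub_cancel_right, Complex.natCast_re]
      exact_mod_cast pow_pos Fintype.card_pos 2
  let stC : Cfsg.IrrCharacter (Cfsg.Sz F m) := ⟨_, hst⟩
  let f : (Fˣ →* ℂˣ) → Cfsg.IrrCharacter (Cfsg.Sz F m) := fun ψ =>
    if hψ : ψ = 1 then oneC else ⟨(pifun h hm) ψ, hnorm ψ hψ⟩
  set s := (Finset.univ.erase (1 : Fˣ →* ℂˣ)) with hs
  have hfval : ∀ ψ ∈ s, (f ψ : Cfsg.Sz F m → ℂ) = (pifun h hm) ψ := fun ψ hψ => by
    simp only [f, dif_neg (Finset.mem_erase.1 hψ).1]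
  have hff : ∀ a ∈ s, ∀ b ∈ s, f b = f a ↔ b = a ∨ b = a⁻¹ := by
    intro a ha b hb
    have hne := (Finset.mem_erase.1 hb).1
    have e1 : Cfsg.classInner (f b : Cfsg.Sz F m → ℂ) (f a : Cfsg.Sz F m → ℂ) =
        (if b = a then 1 else 0) + if b = a⁻¹ then 1 else 0 := by
      rw [hfval a ha, hfval b hb, classInner_pifun]
    rw [classInner_irr] at e1
    constructor
    · intro heq
      rw [if_pos heq] at e1
      by_contra hc
      rw [not_or] at hc
      rw [if_neg hc.1, if_neg hc.2, add_zero] at e1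
      exact one_ne_zero e1
    · intro hor
      by_contra hc
      rw [if_neg hc] at e1
      rcases hor with hba | hba
      · subst hba
        rw [if_pos rfl, if_neg fun z => hne (hsq b z.symm)] at e1
        simp at e1
      · subst hba
        rw [if_pos rfl, if_neg fun z => hne (z.trans (hsq a z))] at e1
        simp at e1
  have hfib : ∀ x ∈ s.image f, (s.filter fun b => f b = x).card = 2 := by
    intro x hx
    obtain ⟨a, ha, rfl⟩ := Finset.mem_image.1 hx
    have ha1 := (Finset.mem_erase.1 ha).1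
    have : (s.filter fun b => f b = f a) = {a, a⁻¹} := by
      ext b
      simp only [Finset.mem_filter, Finset.mem_insert, Finset.mem_singleton]
      refine ⟨fun hb => (hff a ha b hb.1).1 hb.2, fun hb => ?_⟩
      have hbs : b ∈ s := by
        rcases hb with rfl | rfl
        · exact ha
        · exact Finset.mem_erase.2 ⟨fun z => ha1 (MonoidHom.ext fun x => by
            simpa using DFunLike.congr_fun z x), Finset.mem_univ _⟩
      exact ⟨hbs, (hff a ha b hbs).2 hb⟩
    rw [this, Finset.card_pair]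
    exact fun z => ha1 (hsq a z.symm)
  have hP1 : ∀ χ ∈ s.image f, (χ : Cfsg.Sz F m → ℂ) 1 = ((Fintype.card F ^ 2 + 1 : ℕ) : ℂ) ∧
      ∀ g, SzTori.InE g → (χ : Cfsg.Sz F m → ℂ) g = 0 := by
    intro χ hχ
    obtain ⟨ψ, hψ, rfl⟩ := Finset.mem_image.1 hχ
    rw [hfval ψ hψ]
    exact ⟨pifun_one h hm ψ, fun g hg => pifun_eq_zero h hm ψ hg⟩
  have hstv : ∀ g, (stC : Cfsg.Sz F m → ℂ) g = (pifun h hm) 1 g - 1 := fun g => rfl
  have hst1 : (stC : Cfsg.Sz F m → ℂ) 1 = ((Fintype.card F ^ 2 : ℕ) : ℂ) := by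
    rw [hstv, pifun_one]; push_cast; ring
  have hne1 : oneC ≠ stC := fun z => by
    have h2 := congrArg (fun χ : Cfsg.IrrCharacter (Cfsg.Sz F m) => (χ : Cfsg.Sz F m → ℂ) 1) z
    simp only [hst1, oneC, oneChar_apply] at h2
    have h3 : 1 = Fintype.card F ^ 2 := by exact_mod_cast h2
    nlinarith
  have hone : oneC ∉ s.image f := fun z => by
    have h2 := (hP1 _ z).1
    simp only [oneC, oneChar_apply] at h2
    have h3 : 1 = Fintype.card F ^ 2 + 1 := by exact_mod_cast h2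
    nlinarith
  have hstP : stC ∉ s.image f := fun z => by
    have h2 := (hP1 _ z).1
    rw [hst1] at h2
    have h3 : Fintype.card F ^ 2 = Fintype.card F ^ 2 + 1 := by exact_mod_cast h2
    omega
  refine ⟨oneC, stC, s.image f, hne1, hone, hstP, ?_, fun g => oneChar_apply g, hst1,
    fun g hg => by rw [hstv, pifun_eq_zero h hm 1 hg, zero_sub], hP1, fun e he => ?_⟩
  · have h2 := Finset.card_eq_sum_card_image f s
    rw [Finset.sum_const_nat hfib] at h2
    rw [show s.card = Fintype.card F - 1 - 1 by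
      rw [hs, Finset.card_erase_of_mem (Finset.mem_univ _), Finset.card_univ, hcardH]] at h2
    omega
  · have hcj : ∀ ψ : Fˣ →* ℂˣ, conj (ψ e : ℂ) = (ψ e⁻¹ : ℂ) := fun ψ =>
      (apply_inv (Induced.Character.isCharacter_hom ψ) e).symm
    have hee : e * e ≠ 1 := fun z => SzTori.inv_ne_self h hm he (inv_eq_of_mul_eq_one_left z)
    have hterm : ∀ ψ : Fˣ →* ℂˣ, (pifun h hm) ψ (dS h e) * conj ((pifun h hm) ψ (dS h e)) =
        2 + (ψ (e * e) : ℂ) + (ψ (e⁻¹ * e⁻¹) : ℂ) := by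
      intro ψ
      have hc : (ψ e : ℂ) * (ψ e⁻¹ : ℂ) = 1 := by
        rw [← Units.val_mul, ← map_mul, mul_inv_cancel, map_one, Units.val_one]
      rw [pifun_torus h hm ψ he, map_add, hcj, ← hcj ψ, Complex.conj_conj, hcj,
        map_mul, map_mul, Units.val_mul, Units.val_mul]
      linear_combination 2 * hc
    have hall : ∑ ψ ∈ s, (pifun h hm) ψ (dS h e) * conj ((pifun h hm) ψ (dS h e)) = 2 * (Fintype.card F : ℂ) - 6 := by
      rw [hs, Finset.sum_erase_eq_sub (Finset.mem_univ _), Finset.sum_congr rfl fun ψ _ => hterm ψ,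
        Finset.sum_add_distrib, Finset.sum_add_distrib, sum_hom_apply hee,
        sum_hom_apply (fun z => hee (by rw [← mul_inv, inv_eq_one] at z; exact z)), Finset.sum_const,
        Finset.card_univ, hcardH, hterm, nsmul_eq_mul, Nat.cast_sub (by omega)]
      simp; ring
    have hP : 2 * ∑ χ ∈ s.image f, (χ : Cfsg.Sz F m → ℂ) (dS h e) *
        conj ((χ : Cfsg.Sz F m → ℂ) (dS h e)) = 2 * (Fintype.card F : ℂ) - 6 := by
      rw [← hall, Finset.mul_sum, ← Finset.sum_congr rfl (fun ψ hψ => by rw [hfval ψ hψ] :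
        ∀ ψ ∈ s, (f ψ : Cfsg.Sz F m → ℂ) (dS h e) * conj ((f ψ : Cfsg.Sz F m → ℂ) (dS h e)) =
          (pifun h hm) ψ (dS h e) * conj ((pifun h hm) ψ (dS h e))),
        Finset.sum_comp (fun χ : Cfsg.IrrCharacter (Cfsg.Sz F m) =>
          (χ : Cfsg.Sz F m → ℂ) (dS h e) * conj ((χ : Cfsg.Sz F m → ℂ) (dS h e))) f]
      refine Finset.sum_congr rfl fun x hx => ?_
      rw [hfib x hx, nsmul_eq_mul, Nat.cast_ofNat]
    rw [Finset.sum_insert (by simp [hne1, hone]), Finset.sum_insert hstP, hstv,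
      pifun_torus h hm 1 he, oneChar_apply]
    simp only [MonoidHom.one_apply, Units.val_one, map_one, map_sub, map_add]
    linear_combination hP / 2

end Cfsg.Agent.Lib.SzDegrees
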