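import Mathlib
import Cfsg.Agent.Lib.SzDegrees.Exceptional
import Cfsg.Agent.Lib.SzDegrees.Series
import Cfsg.Agent.Lib.BlocksChars5.Basic
import Cfsg.Agent.Lib.SL2Chars49.McKayTools

/-!
The degrees of the Suzuki groups.
-/

set_option autoImplicit false
set_option linter.unusedSectionVars false

namespace Cfsg.Agent.Lib.SzDegrees

open scoped ComplexConjugate Classical
open Cfsg.Agent.Lib.Induced.Basic Cfsg.Agent.Lib.Characters.Basic
open Cfsg.Agent.Lib.LieTwisted.Suzuki Cfsg.Agent.Lib.SzTori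
open Cfsg.Agent.Lib.SL2Chars49

universe u

/-- The column of a torus among a set of irreducible characters. -/
structure Col {G : Type u} [Group G] (C : Subgroup G) (R : Finset (Cfsg.IrrCharacter G)) where
  k : ℕ
  ε : ℤ
  d : ℤ
  f : ℕ
  A : Finset (Cfsg.IrrCharacter G)
  dd : Cfsg.IrrCharacter G → ℤ
  eps : ε = 1 ∨ ε = -1
  card : A.card = k
  order : 4 * k + 1 = Nat.card C
  deg : ∀ χ ∈ A, (χ : G → ℂ) 1 = f
  cong : (Nat.card C : ℤ) ∣ (f : ℤ) - (d + ε * 4)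
  sub : A ⊆ R
  val : ∀ χ, χ ∉ A → (∀ c : C, c ≠ 1 → (χ : G → ℂ) (c : G) = dd χ) ∧
    ∀ n : ℕ, (χ : G → ℂ) 1 = n → (Nat.card C : ℤ) ∣ (n : ℤ) - dd χ
  nonconst : ∀ χ ∈ A, ∀ z : ℂ, ¬ ∀ c : C, c ≠ 1 → (χ : G → ℂ) (c : G) = z
  sep : ∀ χ ∈ A, ∀ χ' ∈ A,
    (∀ c : C, c ≠ 1 → (χ : G → ℂ) (c : G) = (χ' : G → ℂ) (c : G)) → χ = χ'
  agree : ∀ χ ∈ A, ∀ χ' ∈ A, ∀ g : G, g ≠ 1 → g ∉ conjSet C → (χ : G → ℂ) g = (χ' : G → ℂ) g
  sum : ∑ χ ∈ R \ A, dd χ ^ 2 = 2 + 2 * ε * d - (k : ℤ) * d ^ 2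

variable {F : Type*} [Field F] [Fintype F] {m : ℕ} (h : IsSzField F m) (hm : 1 ≤ m)
  [Fintype (Cfsg.Sz F m)] [Fintype (Cfsg.IrrCharacter (Cfsg.Sz F m))]
include h hm

theorem exists_col {one st : Cfsg.IrrCharacter (Cfsg.Sz F m)}
    {P : Finset (Cfsg.IrrCharacter (Cfsg.Sz F m))} (hne : one ≠ st) (h1P : one ∉ P) (hsP : st ∉ P)
    (hone : ∀ g, (one : Cfsg.Sz F m → ℂ) g = 1)
    (hst : ∀ g, InE g → (st : Cfsg.Sz F m → ℂ) g = -1)
    (hP : ∀ χ ∈ P, ∀ g, InE g → (χ : Cfsg.Sz F m → ℂ) g = 0)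
    {g : Cfsg.Sz F m} (hg : InE g)
    (hN : Nat.card (Subgroup.normalizer (cen g : Set (Cfsg.Sz F m))) = 4 * Nat.card (cen g))
    (hbig : 13 ≤ Nat.card (cen g)) :
    Nonempty (Col (cen g) (Finset.univ \ insert one (insert st P))) := by
  have hC : IsCC (cen g) := fun c hc hc1 => torus_eq h hm hg hc hc1
  have he : ∀ ν : cen g →* ℂˣ, ν ≠ 1 → (orb ν).card = 4 := fun ν hν =>
    Nat.eq_of_mul_eq_mul_right Nat.card_pos ((card_orb_mul hC hν).trans hN)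
  have hk := card_orbits_mul hC he
  obtain ⟨ε, d, f, A, dd, hε, hA, hdeg, hcong, hval, hnon, hsep, hag, hsum⟩ :=
    exists_structure hC he (by omega)
  have hg' : g ∈ cen g := mem_centralizer_iff'.2 rfl
  have hc0 : (⟨g, hg'⟩ : cen g) ≠ 1 := fun z => hg.1 (congrArg Subtype.val z)
  have hconst : ∀ χ, χ ∈ insert one (insert st P) → ∃ z : ℤ, (z = 1 ∧ χ = one ∨ z = -1 ∧ χ = st ∨
      z = 0 ∧ χ ∈ P) ∧ ∀ c : cen g, c ≠ 1 → (χ : Cfsg.Sz F m → ℂ) (c : Cfsg.Sz F m) = z := by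
    intro χ hχ
    have hc : ∀ c : cen g, c ≠ 1 → InE (c : Cfsg.Sz F m) := fun c hc =>
      torus_inE h hm hg c.2 fun z => hc (Subtype.ext z)
    rcases Finset.mem_insert.1 hχ with rfl | hχ
    · exact ⟨1, Or.inl ⟨rfl, rfl⟩, fun c _ => by rw [hone, Int.cast_one]⟩
    rcases Finset.mem_insert.1 hχ with rfl | hχ
    · exact ⟨-1, Or.inr (Or.inl ⟨rfl, rfl⟩), fun c h1 => by rw [hst _ (hc c h1)]; simp⟩
    · exact ⟨0, Or.inr (Or.inr ⟨rfl, hχ⟩), fun c h1 => by rw [hP χ hχ _ (hc c h1), Int.cast_zero]⟩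
  have hnotA : ∀ χ, χ ∈ insert one (insert st P) → χ ∉ A := fun χ hχ hA' => by
    obtain ⟨z, -, hz⟩ := hconst χ hχ
    exact hnon χ hA' _ hz
  have hddv : ∀ χ (hχ : χ ∈ insert one (insert st P)), (χ = one → dd χ = 1) ∧ (χ = st → dd χ = -1) ∧
      (χ ∈ P → dd χ = 0) := by
    intro χ hχ
    obtain ⟨z, hz, hzv⟩ := hconst χ hχ
    have h1 := ((hval χ (hnotA χ hχ)).1 _ hc0).symm.trans (hzv _ hc0)
    have h2 : dd χ = z := by exact_mod_cast h1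
    rcases hz with ⟨rfl, rfl⟩ | ⟨rfl, rfl⟩ | ⟨rfl, hz⟩
    · exact ⟨fun _ => h2, fun z => absurd z hne, fun z => absurd z h1P⟩
    · exact ⟨fun z => absurd z.symm hne, fun _ => h2, fun z => absurd z hsP⟩
    · exact ⟨fun z => absurd (z ▸ hz) h1P, fun z => absurd (z ▸ hz) hsP, fun _ => h2⟩
  refine ⟨⟨_, ε, d, f, A, dd, hε, hA, by omega, hdeg, hcong, fun χ hχ =>
    Finset.mem_sdiff.2 ⟨Finset.mem_univ _, fun z => hnotA χ z hχ⟩, hval, hnon, hsep, hag, ?_⟩⟩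
  have hsub : insert one (insert st P) ⊆ Finset.univ \ A := fun χ hχ =>
    Finset.mem_sdiff.2 ⟨Finset.mem_univ _, hnotA χ hχ⟩
  rw [← Finset.sum_sdiff hsub, sdiff_right_comm,
    Finset.sum_insert (by simp [hne, h1P]), Finset.sum_insert hsP,
    (hddv one (by simp)).1 rfl, (hddv st (by simp)).2.1 rfl,
    Finset.sum_eq_zero (s := P) fun χ hχ => by rw [(hddv χ (by simp [hχ])).2.2 hχ]; rfl, hA] at hsum
  push_cast at hsum
  have e : ∑ χ ∈ (Finset.univ \ insert one (insert st P)) \ A, dd χ ^ 2 =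
      2 + 2 * ε * d - (((Finset.univ.erase (1 : cen g →* ℂˣ)).image orb).card : ℤ) * d ^ 2 := by
    linear_combination hsum
  convert e

/-- The characters outside the series have degree divisible by `q - 1`. -/
theorem exists_w {S : Finset (Cfsg.IrrCharacter (Cfsg.Sz F m))}
    (hS : ∀ e : Fˣ, e ≠ 1 → ∑ χ ∈ S, (χ : Cfsg.Sz F m → ℂ) (dS h e) *
      conj ((χ : Cfsg.Sz F m → ℂ) (dS h e)) = (Fintype.card F : ℂ) - 1)
    {χ : Cfsg.IrrCharacter (Cfsg.Sz F m)} (hχ : χ ∉ S) :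
    ∃ w : ℕ, (χ : Cfsg.Sz F m → ℂ) 1 = (((Fintype.card F - 1) * w : ℕ) : ℂ) := by
  have hq : 1 ≤ Fintype.card F := Fintype.card_pos
  have hzero : ∀ e : Fˣ, e ≠ 1 → (χ : Cfsg.Sz F m → ℂ) (dS h e) = 0 := by
    intro e he
    have hcol := Characters.Complete.sum_irr_mul_conj (dS h e) (dS h e)
    rw [if_pos (IsConj.refl _), centralizer_dS h hm he, card_range_dS h hm,
      ← Finset.sum_sdiff (Finset.subset_univ S), hS e he, Nat.cast_sub hq, Nat.cast_one,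
      add_eq_right] at hcol
    have hre : ∑ φ ∈ Finset.univ \ S, Complex.normSq ((φ : Cfsg.Sz F m → ℂ) (dS h e)) = 0 := by
      simp only [Complex.mul_conj] at hcol
      exact_mod_cast hcol
    exact Complex.normSq_eq_zero.1 ((Finset.sum_eq_zero_iff_of_nonneg
      (fun φ _ => Complex.normSq_nonneg _)).1 hre χ (Finset.mem_sdiff.2 ⟨Finset.mem_univ _, hχ⟩))
  obtain ⟨k, hk⟩ := exists_classInner_nat (isCharacter_comp (dS h).range.subtype (isCharacter_irr χ))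
    (isCharacter_irr (oneChar (dS h).range))
  refine ⟨k, ?_⟩
  rw [Cfsg.classInner, Finset.sum_eq_single (1 : (dS h).range), oneChar_apply, map_one, mul_one,
    Function.comp_apply, map_one] at hk
  · rw [Nat.cast_mul, ← hk, ← card_range_dS h hm, mul_inv_cancel_left₀ natCard_ne_zero]
  · intro c _ hc
    obtain ⟨e, he⟩ := c.2
    have : e ≠ 1 := fun z => hc (Subtype.ext (by rw [← he, z, map_one]; rfl))
    rw [Function.comp_apply, Subgroup.coe_subtype, ← he, hzero e this, zero_mul]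
  · exact fun z => absurd (Finset.mem_univ _) z

/-- What the statement needs to know about the degrees. -/
def Facts (G : Type u) [Group G] (q a b : ℕ) : Prop :=
  (∃ χ : Cfsg.IrrCharacter G, (χ : G → ℂ) 1 = ((q ^ 2 + 1 : ℕ) : ℂ)) ∧
  (∃ χ : Cfsg.IrrCharacter G, (χ : G → ℂ) 1 = (((q - 1) * a : ℕ) : ℂ)) ∧
  (∃ χ : Cfsg.IrrCharacter G, (χ : G → ℂ) 1 = (((q - 1) * b : ℕ) : ℂ)) ∧
  (∃ (χ : Cfsg.IrrCharacter G) (n : ℕ), (χ : G → ℂ) 1 = n ∧ 2 ∣ n ∧ q - 1 ∣ n) ∧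
  ∀ (χ : Cfsg.IrrCharacter G) (n : ℕ), (χ : G → ℂ) 1 = n → 2 ∣ n → n.Coprime (q ^ 2 + 1)

omit h hm in
theorem col_sum {g : Cfsg.Sz F m} {R : Finset (Cfsg.IrrCharacter (Cfsg.Sz F m))} (X : Col (cen g) R) :
    ∑ χ ∈ R \ X.A, X.dd χ ^ 2 = 2 + 2 * X.ε * X.d - (X.k : ℤ) * X.d ^ 2 := by
  convert X.sum

omit h hm in
theorem cross {g g' : Cfsg.Sz F m} {R : Finset (Cfsg.IrrCharacter (Cfsg.Sz F m))}
    (X : Col (cen g) R) (Y : Col (cen g') R) (hk : 6 ≤ X.k) (hk' : 6 ≤ Y.k) (hg' : g' ≠ 1)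
    (hd : ∀ c : cen g', c ≠ 1 → (c : Cfsg.Sz F m) ∉ conjSet (cen g)) :
    X.d = 0 ∧ ∀ χ ∈ X.A, χ ∉ Y.A ∧ Y.dd χ = 0 := by
  have hd0 : ∀ (k : ℕ) (ε d S : ℤ), 6 ≤ k → (ε = 1 ∨ ε = -1) → 0 ≤ S →
      S = 2 + 2 * ε * d - (k : ℤ) * d ^ 2 → d = 0 := by
    intro k ε d S hk hε hS hSe
    have h6 : (6 : ℤ) * d ^ 2 ≤ (k : ℤ) * d ^ 2 :=
      mul_le_mul_of_nonneg_right (by exact_mod_cast hk) (sq_nonneg d)
    by_contra hne
    rcases lt_or_gt_of_ne hne with hl | hl <;> rcases hε with rfl | rfl <;> nlinarith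
  have hXd := hd0 X.k X.ε X.d _ hk X.eps (Finset.sum_nonneg fun _ _ => sq_nonneg _) (col_sum X)
  have hYd := hd0 Y.k Y.ε Y.d _ hk' Y.eps (Finset.sum_nonneg fun _ _ => sq_nonneg _) (col_sum Y)
  have hagree : ∀ χ ∈ X.A, ∀ χ' ∈ X.A, ∀ c : cen g', c ≠ 1 →
      (χ : Cfsg.Sz F m → ℂ) (c : Cfsg.Sz F m) = (χ' : Cfsg.Sz F m → ℂ) (c : Cfsg.Sz F m) :=
    fun χ hχ χ' hχ' c hc => X.agree χ hχ χ' hχ' c (fun z => hc (Subtype.ext z)) (hd c hc)
  have hnot : ∀ χ ∈ X.A, χ ∉ Y.A := by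
    intro χ hχ hY
    obtain ⟨χ', hχ', hne⟩ := Finset.exists_mem_ne (show 1 < X.A.card by rw [X.card]; omega) χ
    by_cases hY' : χ' ∈ Y.A
    · exact hne (Y.sep χ' hY' χ hY fun c hc => hagree χ' hχ' χ hχ c hc)
    · exact Y.nonconst χ hY _ fun c hc =>
        (hagree χ hχ χ' hχ' c hc).trans ((Y.val χ' hY').1 c hc)
  refine ⟨hXd, fun χ hχ => ⟨hnot χ hχ, ?_⟩⟩
  have hc0 : (⟨g', mem_centralizer_iff'.2 rfl⟩ : cen g') ≠ 1 := fun z => hg' (congrArg Subtype.val z)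
  have hconst : ∀ χ' ∈ X.A, Y.dd χ' = Y.dd χ := by
    intro χ' hχ'
    have h1 := hagree χ' hχ' χ hχ _ hc0
    rw [(Y.val χ' (hnot χ' hχ')).1 _ hc0, (Y.val χ (hnot χ hχ)).1 _ hc0] at h1
    exact_mod_cast h1
  have hle := Finset.sum_le_sum_of_subset_of_nonneg (f := fun φ => Y.dd φ ^ 2)
    (show X.A ⊆ R \ Y.A from fun φ hφ => Finset.mem_sdiff.2 ⟨X.sub hφ, hnot φ hφ⟩)
    fun _ _ _ => sq_nonneg _
  rw [(col_sum Y), hYd, Finset.sum_congr rfl fun φ hφ => by rw [hconst φ hφ], Finset.sum_const,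
    nsmul_eq_mul, X.card] at hle
  have h6 : (6 : ℤ) * Y.dd χ ^ 2 ≤ (X.k : ℤ) * Y.dd χ ^ 2 :=
    mul_le_mul_of_nonneg_right (by exact_mod_cast hk) (sq_nonneg _)
  by_contra hne
  have : 0 < Y.dd χ ^ 2 := by positivity
  nlinarith

omit h hm in
theorem member_deg {g g' : Cfsg.Sz F m} {R : Finset (Cfsg.IrrCharacter (Cfsg.Sz F m))}
    {w : Cfsg.IrrCharacter (Cfsg.Sz F m) → ℕ} {q : ℕ}
    (hw : ∀ χ ∈ R, (χ : Cfsg.Sz F m → ℂ) 1 = (((q - 1) * w χ : ℕ) : ℂ))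
    (hab : Nat.card (cen g) * Nat.card (cen g') = q ^ 2 + 1)
    (hs : Nat.card (cen g) + Nat.card (cen g') = 2 * q + 2)
    (hq : 2 ∣ q) (hq0 : 2 ≤ q)
    (X : Col (cen g) R) (Y : Col (cen g') R) (hk : 6 ≤ X.k) (hk' : 6 ≤ Y.k) (hg' : g' ≠ 1)
    (hd : ∀ c : cen g', c ≠ 1 → (c : Cfsg.Sz F m) ∉ conjSet (cen g))
    (hS : ∑ χ ∈ R, (w χ : ℤ) ^ 2 =
      (X.k : ℤ) * Nat.card (cen g') ^ 2 + (Y.k : ℤ) * Nat.card (cen g) ^ 2 + q)
    (h2a : Nat.card (cen g) ≤ 2 * Nat.card (cen g'))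
    (h2b : Nat.card (cen g') ≤ 2 * Nat.card (cen g)) :
    ∀ χ ∈ X.A, w χ = Nat.card (cen g') := by
  intro χ hχ
  obtain ⟨hd0, hX⟩ := cross X Y hk hk' hg' hd
  obtain ⟨hnot, hdd⟩ := hX χ hχ
  have ha := X.order
  have hb := Y.order
  set a := Nat.card (cen g)
  set b := Nat.card (cen g')
  have hb0 := (Y.val χ hnot).2 _ (hw χ (X.sub hχ))
  rw [hdd, sub_zero] at hb0
  have hbu : b ∣ (q - 1) * w χ := by exact_mod_cast hb0
  have hcop : b.Coprime (q - 1) := Nat.coprime_of_dvd fun p hp h1 h2 => by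
    have h3 : p ∣ q ^ 2 + 1 := h1.trans (Dvd.intro_left _ hab)
    have h4 : p ∣ q ^ 2 - 1 := h2.trans ⟨q + 1, by
      rw [mul_comm, ← Nat.sq_sub_sq, one_pow]⟩
    have h5 := Nat.dvd_sub h3 h4
    rw [show q ^ 2 + 1 - (q ^ 2 - 1) = 2 by have := Nat.one_le_pow 2 q (by omega); omega] at h5
    obtain rfl := (Nat.prime_dvd_prime_iff_eq hp Nat.prime_two).1 h5
    obtain ⟨j, hj⟩ := hq
    have := h2
    omega
  obtain ⟨v, hv⟩ := hcop.dvd_of_dvd_mul_left hbu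
  have hf : (((q - 1) * w χ : ℕ) : ℤ) = X.f := by
    have h1 := (hw χ (X.sub hχ)).symm.trans (X.deg χ hχ)
    exact_mod_cast h1
  have hconst : ∀ φ ∈ X.A, w φ = w χ := fun φ hφ => by
    have h1 := (hw φ (X.sub hφ)).symm.trans
      ((X.deg φ hφ).trans ((X.deg χ hχ).symm.trans (hw χ (X.sub hχ))))
    exact Nat.eq_of_mul_eq_mul_left (by omega : 0 < q - 1) (by exact_mod_cast h1)
  obtain ⟨n, hn⟩ := X.cong
  rw [← hf, hd0, hv] at hn
  push_cast [Nat.cast_sub (by omega : 1 ≤ q)] at hn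
  have habz : (a : ℤ) * b = (q : ℤ) ^ 2 + 1 := by exact_mod_cast hab
  have hsz : (a : ℤ) + b = 2 * q + 2 := by exact_mod_cast hs
  have haz : 4 * (X.k : ℤ) + 1 = a := by exact_mod_cast ha
  have hbz : 4 * (Y.k : ℤ) + 1 = b := by exact_mod_cast hb
  -- `a` divides `4 (v + ε)`
  have h4 : (a : ℤ) ∣ 4 * ((v : ℤ) + X.ε) := ⟨(2 * b - ((q : ℤ) - 1)) * v - n, by
    linear_combination -hn - 2 * (v : ℤ) * habz + ((q : ℤ) - 1) * (v : ℤ) * hsz⟩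
  obtain ⟨t, ht⟩ := h4
  have hdv : (v : ℤ) + X.ε = (a : ℤ) * ((v : ℤ) + X.ε - X.k * t) := by
    linear_combination -(X.k : ℤ) * ht + ((v : ℤ) + X.ε) * haz
  have hv0 : 0 < v := by
    rcases Nat.eq_zero_or_pos v with rfl | hv0
    · obtain ⟨n', hn0, hn'⟩ := exists_degree_pos χ
      have h1 := (hw χ (X.sub hχ)).symm.trans hn'
      rw [hv] at h1
      simp only [mul_zero] at h1
      have : (0 : ℕ) = n' := by exact_mod_cast h1
      omega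
    · exact hv0
  have hle : (X.k : ℤ) * ((b : ℤ) * v) ^ 2 ≤ (X.k : ℤ) * b ^ 2 + (Y.k : ℤ) * a ^ 2 + q := by
    rw [← hS, show (X.k : ℤ) * ((b : ℤ) * v) ^ 2 = ∑ φ ∈ X.A, (w φ : ℤ) ^ 2 by
      rw [Finset.sum_congr rfl fun φ hφ => by rw [hconst φ hφ, hv], Finset.sum_const, X.card,
        nsmul_eq_mul]
      push_cast; rfl]
    exact Finset.sum_le_sum_of_subset_of_nonneg X.sub fun _ _ _ => sq_nonneg _
  suffices hz : (v : ℤ) + X.ε = 0 by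
    rcases X.eps with he | he <;> rw [hv, show v = 1 by omega, mul_one]
  by_contra hne
  obtain ⟨s, hs'⟩ : (a : ℤ) ∣ (v : ℤ) + X.ε := ⟨_, hdv⟩
  have hs1 : s ≠ 0 := fun z => hne (by rw [hs', z, mul_zero])
  have hspos : 1 ≤ s := by
    by_contra hc
    have : (a : ℤ) * s ≤ (a : ℤ) * (-1) := mul_le_mul_of_nonneg_left (by omega) (Int.natCast_nonneg a)
    rcases X.eps with he | he <;> omega
  have hvbig : (24 : ℤ) ≤ v := by
    have : (a : ℤ) * 1 ≤ (a : ℤ) * s := mul_le_mul_of_nonneg_left hspos (Int.natCast_nonneg a)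
    rcases X.eps with he | he <;> omega
  have hk2 : (Y.k : ℤ) ≤ 2 * X.k := by omega
  have hab2 : (a : ℤ) ^ 2 ≤ 4 * (b : ℤ) ^ 2 := by
    have : (a : ℤ) ≤ 2 * b := by exact_mod_cast h2a
    nlinarith
  have e1 : (Y.k : ℤ) * a ^ 2 ≤ 2 * X.k * (4 * (b : ℤ) ^ 2) :=
    mul_le_mul hk2 hab2 (sq_nonneg _) (by positivity)
  have hkb : (6 : ℤ) * b ^ 2 ≤ (X.k : ℤ) * b ^ 2 :=
    mul_le_mul_of_nonneg_right (by exact_mod_cast hk) (sq_nonneg _)
  have e2 : (X.k : ℤ) * b ^ 2 * 576 ≤ (X.k : ℤ) * ((b : ℤ) * v) ^ 2 := by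
    rw [mul_pow, ← mul_assoc]
    exact mul_le_mul_of_nonneg_left (by nlinarith) (by positivity)
  have e3 : (q : ℤ) < 6 * b ^ 2 := by nlinarith
  nlinarith

/-- The case `q = 8`. -/
theorem facts_small {g g' : Cfsg.Sz F m} {R : Finset (Cfsg.IrrCharacter (Cfsg.Sz F m))}
    {w : Cfsg.IrrCharacter (Cfsg.Sz F m) → ℕ} (hm1 : m = 1)
    (hw : ∀ χ ∈ R, (χ : Cfsg.Sz F m → ℂ) 1 = (((Fintype.card F - 1) * w χ : ℕ) : ℂ))
    (ha : Nat.card (cen g) = 13) (hb : Nat.card (cen g') = 5)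
    (X : Col (cen g) R) (hS : 2 * ∑ χ ∈ R, (w χ : ℤ) ^ 2 =
      (Fintype.card F : ℤ) * ((Fintype.card F : ℤ) ^ 2 - 1)) :
    (∃ χ ∈ R, w χ = Nat.card (cen g)) ∧ (∃ χ ∈ R, w χ = Nat.card (cen g')) ∧
      (∃ χ ∈ R, 2 ∣ w χ) ∧
      ∀ χ ∈ R, 2 ∣ w χ → ((Fintype.card F - 1) * w χ).Coprime (Fintype.card F ^ 2 + 1) := by
  have hq : Fintype.card F = 8 := by rw [h.card, hm1]; rfl
  rw [hq] at hw hS ⊢
  rw [ha, hb]
  have hk : X.k = 3 := by have := X.order; omega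
  have hdvd : ∀ χ ∈ R, w χ ∣ 4160 := by
    intro χ hχ
    have h1 := BlocksChars5.Basic.degree_dvd_card χ
    rw [McKay.charDegree_of_eq (hw χ hχ), h.card_group hm, hq] at h1
    exact Nat.dvd_of_mul_dvd_mul_left (by norm_num : 0 < 8 - 1) (h1.trans (by norm_num))
  have hpos : ∀ χ ∈ R, 0 < w χ := by
    intro χ hχ
    rcases Nat.eq_zero_or_pos (w χ) with h0 | h0
    · obtain ⟨n', hn0, hn'⟩ := exists_degree_pos χ
      have h1 := (hw χ hχ).symm.trans hn'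
      rw [h0, mul_zero] at h1
      have : (0 : ℕ) = n' := by exact_mod_cast h1
      omega
    · exact h0
  have hS' : ∑ χ ∈ R, (w χ : ℤ) ^ 2 = 252 := by norm_num at hS; linarith
  obtain ⟨χ₀, hχ₀⟩ := Finset.card_pos.1 (show 0 < X.A.card by rw [X.card, hk]; norm_num)
  set u := w χ₀ with hu
  have hconst : ∀ φ ∈ X.A, w φ = u := fun φ hφ => by
    have h1 := (hw φ (X.sub hφ)).symm.trans
      ((X.deg φ hφ).trans ((X.deg χ₀ hχ₀).symm.trans (hw χ₀ (X.sub hχ₀))))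
    exact Nat.eq_of_mul_eq_mul_left (by norm_num : 0 < 8 - 1) (by exact_mod_cast h1)
  have hrest : ∑ χ ∈ R \ X.A, (w χ : ℤ) ^ 2 = 252 - 3 * (u : ℤ) ^ 2 := by
    have h1 := Finset.sum_sdiff (f := fun χ => (w χ : ℤ) ^ 2) X.sub
    rw [hS', Finset.sum_congr (s₁ := X.A) rfl fun φ hφ => by rw [hconst φ hφ], Finset.sum_const,
      X.card, hk, nsmul_eq_mul] at h1
    push_cast at h1
    linarith
  have hnn : 0 ≤ ∑ χ ∈ R \ X.A, (w χ : ℤ) ^ 2 := Finset.sum_nonneg fun _ _ => sq_nonneg _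
  have hu9 : u ≤ 9 := by
    have : (u : ℤ) ≤ 9 := by nlinarith
    omega
  have hu0 := hpos χ₀ (X.sub hχ₀)
  have hf : ((8 - 1) * u : ℕ) = X.f := by
    have h1 := (hw χ₀ (X.sub hχ₀)).symm.trans (X.deg χ₀ hχ₀)
    exact_mod_cast h1
  have hcong := X.cong
  rw [ha, ← hf] at hcong
  push_cast at hcong
  have hsum := (col_sum X)
  rw [hk] at hsum
  push_cast at hsum
  have hsnn : 0 ≤ ∑ χ ∈ R \ X.A, X.dd χ ^ 2 := Finset.sum_nonneg fun _ _ => sq_nonneg _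
  rw [hsum] at hsnn
  have hd : X.d = 0 ∨ X.d = X.ε := by
    have h1 : -2 < X.d ∧ X.d < 2 := by
      constructor <;> rcases X.eps with he | he <;> rw [he] at hsnn <;> nlinarith
    obtain ⟨h1, h2⟩ := h1
    rcases X.eps with he | he <;> rw [he] at hsnn ⊢ <;> interval_cases hd' : X.d <;> simp at hsnn ⊢
  have hu35 : (u = 5 ∨ u = 8) ∧ X.d = 0 := by
    have hu3 : u ≠ 3 := fun z => by
      have := hdvd χ₀ (X.sub hχ₀)
      rw [← hu, z] at this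
      omega
    rcases X.eps with he | he <;> rcases hd with hd | hd <;> omega
  obtain ⟨hu58, hd0⟩ := hu35
  rw [hd0] at hsum
  norm_num at hsum
  have hle : ∀ χ ∈ R \ X.A, (w χ : ℤ) ^ 2 ≤ 252 - 3 * (u : ℤ) ^ 2 := fun χ hχ => hrest ▸
    Finset.single_le_sum (f := fun φ => (w φ : ℤ) ^ 2) (fun φ _ => sq_nonneg _) hχ
  have hw13 : ∀ χ ∈ R \ X.A, w χ ≤ 13 := by
    intro χ hχ
    have h1 := hle χ hχ
    have : (w χ : ℤ) ≤ 13 := by
      rcases hu58 with h5 | h5 <;> rw [h5] at h1 <;> norm_num at h1 <;> nlinarith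
    omega
  have hone : ∀ χ ∈ R \ X.A, X.dd χ ≠ 0 → w χ = 2 ∧ X.dd χ ^ 2 = 1 := by
    intro χ hχ hne
    obtain ⟨hR, hA⟩ := Finset.mem_sdiff.1 hχ
    have h1 : X.dd χ ^ 2 ≤ 2 := hsum ▸
      Finset.single_le_sum (f := fun φ => X.dd φ ^ 2) (fun φ _ => sq_nonneg _) hχ
    have h2 : -1 ≤ X.dd χ ∧ X.dd χ ≤ 1 := by constructor <;> nlinarith
    have h3 := (X.val χ hA).2 _ (hw χ hR)
    rw [ha] at h3
    push_cast at h3
    have h4 := hw13 χ hχ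
    have h5 := hdvd χ hR
    have h6 : w χ = 2 ∨ w χ = 11 := by omega
    refine ⟨h6.resolve_right fun z => by rw [z] at h5; norm_num at h5, ?_⟩
    have : X.dd χ = 1 ∨ X.dd χ = -1 := by omega
    rcases this with z | z <;> rw [z] <;> norm_num
  have hzero : ∀ χ ∈ R \ X.A, X.dd χ = 0 → w χ = 13 := by
    intro χ hχ h0
    obtain ⟨hR, hA⟩ := Finset.mem_sdiff.1 hχ
    have h3 := (X.val χ hA).2 _ (hw χ hR)
    rw [ha, h0] at h3
    push_cast at h3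
    have h4 := hw13 χ hχ
    have := hpos χ hR
    omega
  set S1 := (R \ X.A).filter fun χ => X.dd χ ≠ 0 with hS1
  set S0 := (R \ X.A).filter fun χ => ¬ X.dd χ ≠ 0 with hS0
  have hc1 : (S1.card : ℤ) = 2 := by
    rw [← hsum, ← Finset.sum_filter_add_sum_filter_not (R \ X.A) (fun χ => X.dd χ ≠ 0),
      Finset.sum_eq_zero (s := (R \ X.A).filter fun χ => ¬ X.dd χ ≠ 0) (fun χ hχ => by
        rw [not_not.1 (Finset.mem_filter.1 hχ).2]; rfl), add_zero,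
      Finset.sum_congr rfl fun χ hχ => (hone χ (Finset.mem_filter.1 hχ).1 (Finset.mem_filter.1 hχ).2).2]
    simp [hS1]
  have hcount : (252 : ℤ) - 3 * (u : ℤ) ^ 2 = 8 + 169 * (S0.card : ℤ) := by
    rw [← hrest, ← Finset.sum_filter_add_sum_filter_not (R \ X.A) (fun χ => X.dd χ ≠ 0), ← hS1, ← hS0,
      Finset.sum_congr (s₁ := S1) rfl (g := fun _ => (4 : ℤ)) fun χ hχ => by
        rw [(hone χ (Finset.mem_filter.1 hχ).1 (Finset.mem_filter.1 hχ).2).1]; norm_num,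
      Finset.sum_congr (s₁ := S0) rfl (g := fun _ => (169 : ℤ)) fun χ hχ => by
        rw [hzero χ (Finset.mem_filter.1 hχ).1 (not_not.1 (Finset.mem_filter.1 hχ).2)]; norm_num,
      Finset.sum_const, Finset.sum_const, nsmul_eq_mul, nsmul_eq_mul, hc1]
    ring
  have hu5 : u = 5 := by
    rcases hu58 with h5 | h5
    · exact h5
    · rw [h5] at hcount; norm_num at hcount; omega
  rw [hu5] at hcount
  norm_num at hcount
  obtain ⟨χ₁, hχ₁⟩ := Finset.card_pos.1 (show 0 < S0.card by omega)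
  obtain ⟨χ₂, hχ₂⟩ := Finset.card_pos.1 (show 0 < S1.card by omega)
  rw [hS0, Finset.mem_filter] at hχ₁
  rw [hS1, Finset.mem_filter] at hχ₂
  refine ⟨⟨χ₁, (Finset.mem_sdiff.1 hχ₁.1).1, hzero χ₁ hχ₁.1 (not_not.1 hχ₁.2)⟩,
    ⟨χ₀, X.sub hχ₀, hu5⟩, ⟨χ₂, (Finset.mem_sdiff.1 hχ₂.1).1, by rw [(hone χ₂ hχ₂.1 hχ₂.2).1]⟩, ?_⟩
  intro χ hχ h2
  by_cases hA : χ ∈ X.A
  · rw [hconst χ hA, hu5] at h2; omega
  have hχ' : χ ∈ R \ X.A := Finset.mem_sdiff.2 ⟨hχ, hA⟩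
  by_cases h0 : X.dd χ = 0
  · rw [hzero χ hχ' h0] at h2; omega
  · rw [(hone χ hχ' h0).1]; norm_num

/-- The case `q ≥ 32`. -/
theorem facts_large {g g' : Cfsg.Sz F m} {R : Finset (Cfsg.IrrCharacter (Cfsg.Sz F m))}
    {w : Cfsg.IrrCharacter (Cfsg.Sz F m) → ℕ} (hg : InE g) (hg' : InE g')
    (hw : ∀ χ ∈ R, (χ : Cfsg.Sz F m → ℂ) 1 = (((Fintype.card F - 1) * w χ : ℕ) : ℂ))
    (hab : Nat.card (cen g) * Nat.card (cen g') = Fintype.card F ^ 2 + 1)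
    (hs : Nat.card (cen g) + Nat.card (cen g') = 2 * Fintype.card F + 2)
    (hlt : Nat.card (cen g') < Nat.card (cen g)) (h2b : Nat.card (cen g) ≤ 2 * Nat.card (cen g'))
    (X : Col (cen g) R) (Y : Col (cen g') R) (hk : 6 ≤ X.k) (hk' : 6 ≤ Y.k)
    (hS : 2 * ∑ χ ∈ R, (w χ : ℤ) ^ 2 = (Fintype.card F : ℤ) * ((Fintype.card F : ℤ) ^ 2 - 1)) :
    (∃ χ ∈ R, w χ = Nat.card (cen g)) ∧ (∃ χ ∈ R, w χ = Nat.card (cen g')) ∧
      (∃ χ ∈ R, 2 ∣ w χ) ∧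
      ∀ χ ∈ R, 2 ∣ w χ → ((Fintype.card F - 1) * w χ).Coprime (Fintype.card F ^ 2 + 1) := by
  obtain ⟨hq2, hqe⟩ := card_facts h hm
  have hqeven : 2 ∣ Fintype.card F := hqe.two_dvd
  have hq4 : 4 ∣ Fintype.card F := by
    rw [h.card]
    exact (pow_dvd_pow 2 (by omega : 2 ≤ 2 * m + 1) : 2 ^ 2 ∣ 2 ^ (2 * m + 1))
  have hdis : ∀ {x y : Cfsg.Sz F m}, InE x → InE y → Nat.card (cen x) ≠ Nat.card (cen y) →
      ∀ c : cen y, c ≠ 1 → (c : Cfsg.Sz F m) ∉ conjSet (cen x) := fun hx hy hne c hc hmem => hne (by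
    rw [← (conjSet_eq h hm hx hmem).2]
    exact congrArg (fun H : Subgroup (Cfsg.Sz F m) => Nat.card H)
      (torus_eq h hm hy c.2 fun z => hc (Subtype.ext z)))
  have ha := X.order
  have hb := Y.order
  set a := Nat.card (cen g) with hadef
  set b := Nat.card (cen g') with hbdef
  set q := Fintype.card F with hqdef
  have habz : (a : ℤ) * b = (q : ℤ) ^ 2 + 1 := by exact_mod_cast hab
  have hsz : (a : ℤ) + b = 2 * q + 2 := by exact_mod_cast hs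
  have haz : 4 * (X.k : ℤ) + 1 = a := by exact_mod_cast ha
  have hbz : 4 * (Y.k : ℤ) + 1 = b := by exact_mod_cast hb
  have hW : ∑ χ ∈ R, (w χ : ℤ) ^ 2 = (X.k : ℤ) * b ^ 2 + (Y.k : ℤ) * a ^ 2 + q := by
    have : 4 * ∑ χ ∈ R, (w χ : ℤ) ^ 2 = 4 * ((X.k : ℤ) * b ^ 2 + (Y.k : ℤ) * a ^ 2 + q) := by
      linear_combination 2 * hS - (b : ℤ) ^ 2 * haz - (a : ℤ) ^ 2 * hbz -
        ((a : ℤ) + b + 2) * habz - ((q : ℤ) ^ 2 + 1 - (a + b + 2 * q + 2)) * hsz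
    linarith
  have hA := member_deg hw hab hs hqeven (by omega) X Y hk hk' hg'.1
    (hdis hg hg' hlt.ne') hW h2b (by omega)
  have hB := member_deg hw (by rw [mul_comm]; exact hab) (by rw [add_comm]; exact hs) hqeven (by omega)
    Y X hk' hk hg.1 (hdis hg' hg hlt.ne) (by rw [hW]; ring) (by omega) h2b
  obtain ⟨hXd, hX⟩ := cross X Y hk hk' hg'.1 (hdis hg hg' hlt.ne')
  obtain ⟨hYd, hY⟩ := cross Y X hk' hk hg.1 (hdis hg' hg hlt.ne)
  have hsubB : Y.A ⊆ R \ X.A := fun χ hχ => Finset.mem_sdiff.2 ⟨Y.sub hχ, (hY χ hχ).1⟩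
  have hsubA : X.A ⊆ R \ Y.A := fun χ hχ => Finset.mem_sdiff.2 ⟨X.sub hχ, (hX χ hχ).1⟩
  set R' := (R \ X.A) \ Y.A with hR'
  have hR'c : (R \ Y.A) \ X.A = R' := sdiff_right_comm ..
  have hq' : ∑ χ ∈ R', (w χ : ℤ) ^ 2 = q := by
    have h1 := Finset.sum_sdiff (f := fun χ => (w χ : ℤ) ^ 2) X.sub
    have h2 := Finset.sum_sdiff (f := fun χ => (w χ : ℤ) ^ 2) hsubB
    rw [hW, Finset.sum_congr (s₁ := X.A) rfl fun φ hφ => by rw [hA φ hφ], Finset.sum_const, X.card,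
      nsmul_eq_mul] at h1
    rw [← hR', Finset.sum_congr (s₁ := Y.A) rfl fun φ hφ => by rw [hB φ hφ], Finset.sum_const, Y.card,
      nsmul_eq_mul] at h2
    rw [← hadef] at h2
    rw [← hbdef] at h1
    linarith
  have hsum2 : ∑ χ ∈ R', X.dd χ ^ 2 = 2 ∧ ∑ χ ∈ R', Y.dd χ ^ 2 = 2 := by
    constructor
    · have h1 := Finset.sum_sdiff (f := fun χ => X.dd χ ^ 2) hsubB
      rw [← hR', Finset.sum_eq_zero (s := Y.A) (fun χ hχ => by rw [(hY χ hχ).2]; rfl), add_zero,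
        (col_sum X), hXd] at h1
      rw [h1]; ring
    · have h1 := Finset.sum_sdiff (f := fun χ => Y.dd χ ^ 2) hsubA
      rw [hR'c, Finset.sum_eq_zero (s := X.A) (fun χ hχ => by rw [(hX χ hχ).2]; rfl), add_zero,
        (col_sum Y), hYd] at h1
      rw [h1]; ring
  have key : ∀ {x : Cfsg.Sz F m} (Z : Col (cen x) R), q < Nat.card (cen x) ^ 2 →
      (q - 1).Coprime (Nat.card (cen x)) → ∑ χ ∈ R', Z.dd χ ^ 2 = 2 →
      ∀ χ ∈ R', χ ∉ Z.A → Z.dd χ ^ 2 = 1 ∧ ((q - 1) * w χ).Coprime (Nat.card (cen x)) := by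
    intro x Z hbig hcop hsum χ hχ hZ
    have hR : χ ∈ R := (Finset.mem_sdiff.1 (Finset.mem_sdiff.1 hχ).1).1
    have h3 := (Z.val χ hZ).2 _ (hw χ hR)
    have h1 : Z.dd χ ^ 2 ≤ 2 := hsum ▸
      Finset.single_le_sum (f := fun φ => Z.dd φ ^ 2) (fun φ _ => sq_nonneg _) hχ
    have h2 : -1 ≤ Z.dd χ ∧ Z.dd χ ≤ 1 := by constructor <;> nlinarith
    have hne : Z.dd χ ≠ 0 := by
      intro h0
      rw [h0, sub_zero] at h3
      have hdv : Nat.card (cen x) ∣ w χ := hcop.symm.dvd_of_dvd_mul_left (by exact_mod_cast h3)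
      have hw0 : 0 < w χ := by
        rcases Nat.eq_zero_or_pos (w χ) with hz | hz
        · obtain ⟨n', hn0, hn'⟩ := exists_degree_pos χ
          have hh := (hw χ hR).symm.trans hn'
          rw [hz, mul_zero] at hh
          have : (0 : ℕ) = n' := by exact_mod_cast hh
          omega
        · exact hz
      have hle : (w χ : ℤ) ^ 2 ≤ q := hq' ▸
        Finset.single_le_sum (f := fun φ => (w φ : ℤ) ^ 2) (fun φ _ => sq_nonneg _) hχ
      have hle' : w χ ^ 2 ≤ q := by exact_mod_cast hle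
      have := Nat.pow_le_pow_left (Nat.le_of_dvd hw0 hdv) 2
      omega
    have h4 : Z.dd χ = 1 ∨ Z.dd χ = -1 := by omega
    refine ⟨by rcases h4 with z | z <;> rw [z] <;> norm_num, Nat.coprime_of_dvd fun p hp hp1 hp2 => ?_⟩
    have h5 : (p : ℤ) ∣ (((q - 1) * w χ : ℕ) : ℤ) - Z.dd χ :=
      (Int.natCast_dvd_natCast.2 hp2).trans h3
    have h6 := dvd_sub (Int.natCast_dvd_natCast.2 hp1) h5
    rw [sub_sub_cancel] at h6
    rcases h4 with z | z <;> rw [z] at h6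
    · exact hp.not_dvd_one (Int.natCast_dvd_natCast.1 h6)
    · exact hp.not_dvd_one (Int.natCast_dvd_natCast.1 (dvd_neg.1 h6))
  have hcopQ : (q - 1).Coprime (q ^ 2 + 1) := by
    refine (coprime_card h hm).symm.coprime_dvd_left ?_
    exact dvd_mul_left _ _
  have hca : (q - 1).Coprime a := hcopQ.coprime_dvd_right (Dvd.intro _ hab)
  have hcb : (q - 1).Coprime b := hcopQ.coprime_dvd_right (Dvd.intro_left _ hab)
  have hqb : q < b ^ 2 := by nlinarith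
  have hqa : q < a ^ 2 := lt_of_lt_of_le hqb (Nat.pow_le_pow_left hlt.le 2)
  have hR'X : ∀ χ ∈ R', χ ∉ X.A := fun χ hχ => (Finset.mem_sdiff.1 (Finset.mem_sdiff.1 hχ).1).2
  have hR'Y : ∀ χ ∈ R', χ ∉ Y.A := fun χ hχ => (Finset.mem_sdiff.1 hχ).2
  have hcard : R'.card = 2 := by
    have h1 := hsum2.1
    rw [Finset.sum_congr rfl fun χ hχ => (key X hqa hca hsum2.1 χ hχ (hR'X χ hχ)).1, Finset.sum_const,
      nsmul_eq_mul, mul_one] at h1
    exact_mod_cast h1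
  have heven : ∀ χ ∈ R', 2 ∣ w χ := by
    obtain ⟨x, y, hxy, hR2⟩ := Finset.card_eq_two.1 hcard
    rw [hR2, Finset.sum_pair hxy] at hq'
    have h4 : (4 : ℤ) ∣ (w x : ℤ) ^ 2 + (w y : ℤ) ^ 2 := by rw [hq']; exact_mod_cast hq4
    have hboth : 2 ∣ w x ∧ 2 ∣ w y := by
      have h4' : 4 ∣ w x ^ 2 + w y ^ 2 := by exact_mod_cast h4
      have hmod : ∀ a b : ZMod 4, a ^ 2 + b ^ 2 = 0 → (a = 0 ∨ a = 2) ∧ (b = 0 ∨ b = 2) := by decide
      have h5 := hmod (w x : ZMod 4) (w y : ZMod 4)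
        (by exact_mod_cast (ZMod.natCast_eq_zero_iff _ 4).2 h4')
      have h6 : ∀ n : ℕ, ((n : ZMod 4) = 0 ∨ (n : ZMod 4) = 2) → 2 ∣ n := by
        intro n hn
        rcases hn with hn | hn <;> have := congrArg ZMod.val hn <;> rw [ZMod.val_natCast] at this
        · rw [ZMod.val_zero] at this; omega
        · rw [show (2 : ZMod 4).val = 2 from rfl] at this; omega
      exact ⟨h6 _ h5.1, h6 _ h5.2⟩
    intro χ hχ
    rw [hR2] at hχ
    rcases Finset.mem_insert.1 hχ with rfl | hχ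
    · exact hboth.1
    · rw [Finset.mem_singleton.1 hχ]; exact hboth.2
  obtain ⟨φA, hφA⟩ := Finset.card_pos.1 (show 0 < X.A.card by rw [X.card]; omega)
  obtain ⟨φB, hφB⟩ := Finset.card_pos.1 (show 0 < Y.A.card by rw [Y.card]; omega)
  obtain ⟨φ, hφ⟩ := Finset.card_pos.1 (show 0 < R'.card by omega)
  refine ⟨⟨φB, Y.sub hφB, hB φB hφB⟩, ⟨φA, X.sub hφA, hA φA hφA⟩,
    ⟨φ, (Finset.mem_sdiff.1 (Finset.mem_sdiff.1 hφ).1).1, heven φ hφ⟩, fun χ hχ h2 => ?_⟩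
  by_cases hXA : χ ∈ X.A
  · rw [hA χ hXA] at h2; omega
  by_cases hYA : χ ∈ Y.A
  · rw [hB χ hYA] at h2; omega
  have hχ' : χ ∈ R' := Finset.mem_sdiff.2 ⟨Finset.mem_sdiff.2 ⟨hχ, hXA⟩, hYA⟩
  rw [← hab]
  exact (key X hqa hca hsum2.1 χ hχ' hXA).2.mul_right (key Y hqb hcb hsum2.2 χ hχ' hYA).2

/-- The degrees of the Suzuki group. -/
theorem exists_facts :
    ∃ a b : ℕ, a * b = Fintype.card F ^ 2 + 1 ∧ Facts (Cfsg.Sz F m) (Fintype.card F) a b := by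
  obtain ⟨one, st, P, hne, h1P, hsP, hPc, hone, hst1, hstE, hPv, hcol⟩ := exists_series h hm
  obtain ⟨g₁, g₂, h1, h2, -, hab, hsum, hN⟩ := two_classes h hm
  obtain ⟨hq2, hqe⟩ := card_facts h hm
  set r := 2 ^ (m + 1) with hr
  set q := Fintype.card F with hqdef
  have hr2 : r ^ 2 = 2 * q := by rw [hr, hqdef, h.card, ← pow_mul, ← pow_succ']; ring_nf
  obtain ⟨g, g', hg, hg', hga, hgb⟩ : ∃ g g' : Cfsg.Sz F m, InE g ∧ InE g' ∧
      Nat.card (cen g) = q + r + 1 ∧ Nat.card (cen g') + r = q + 1 := by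
    obtain ⟨-, hex⟩ := torus_orders h hm
    obtain ⟨g, hg, hga⟩ := hex (2 ^ (2 * m + 1) + 2 ^ (m + 1) + 1) (by simp)
    obtain ⟨g', hg', hgb⟩ := hex (2 ^ (2 * m + 1) - 2 ^ (m + 1) + 1) (by simp)
    have : 2 ^ (m + 1) ≤ 2 ^ (2 * m + 1) := Nat.pow_le_pow_right (by norm_num) (by omega)
    refine ⟨g, g', hg, hg', by rw [hga, hr, hqdef, h.card], ?_⟩
    rw [hgb, hr, hqdef, h.card]
    omega
  set a := Nat.card (cen g) with hadef
  set b := Nat.card (cen g') with hbdef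
  have habq : a * b = q ^ 2 + 1 := by
    have : ((q : ℤ) + r + 1) * ((q : ℤ) + 1 - r) = (q : ℤ) ^ 2 + 1 := by
      have : (r : ℤ) ^ 2 = 2 * q := by exact_mod_cast hr2
      linear_combination -this
    have hbz : (b : ℤ) = (q : ℤ) + 1 - r := by omega
    have haz : (a : ℤ) = (q : ℤ) + r + 1 := by omega
    zify
    rw [haz, hbz]
    exact this
  have hsq : a + b = 2 * q + 2 := by omega
  set SP := insert one (insert st P) with hSP
  set R := Finset.univ \ SP with hR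
  have hex : ∀ χ, ∃ w : ℕ, χ ∈ R → (χ : Cfsg.Sz F m → ℂ) 1 = (((q - 1) * w : ℕ) : ℂ) := fun χ => by
    by_cases hχ : χ ∈ R
    · obtain ⟨w, hw⟩ := exists_w h hm hcol (Finset.mem_sdiff.1 hχ).2
      exact ⟨w, fun _ => hw⟩
    · exact ⟨0, fun z => absurd z hχ⟩
  choose w hw using hex
  have hW : 2 * ∑ χ ∈ R, (w χ : ℤ) ^ 2 = (q : ℤ) * ((q : ℤ) ^ 2 - 1) := by
    have hG := Characters.Complete.finsum_degree_sq (G := Cfsg.Sz F m)
    rw [finsum_eq_sum_of_fintype, ← Finset.sum_sdiff (Finset.subset_univ SP), ← hR, hSP,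
      Finset.sum_insert (by simp [hne, h1P]), Finset.sum_insert hsP, hone, hst1,
      Finset.sum_congr (s₁ := P) rfl fun χ hχ => by rw [(hPv χ hχ).1], Finset.sum_const, nsmul_eq_mul,
      Finset.sum_congr (s₁ := R) rfl fun χ hχ => by rw [hw χ hχ], h.card_group hm, ← hqdef] at hG
    have hZ : (∑ χ ∈ R, ((((q - 1) * w χ : ℕ) : ℤ)) ^ 2) +
        (1 ^ 2 + (((q ^ 2 : ℕ) : ℤ) ^ 2 + (P.card : ℤ) * ((q ^ 2 + 1 : ℕ) : ℤ) ^ 2)) =
        ((q ^ 2 * (q ^ 2 + 1) * (q - 1) : ℕ) : ℤ) := by exact_mod_cast hG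
    push_cast [Nat.cast_sub (by omega : 1 ≤ q), mul_pow] at hZ
    rw [← Finset.mul_sum] at hZ
    have hPz : 2 * (P.card : ℤ) + 2 = q := by exact_mod_cast hPc
    refine mul_left_cancel₀ (show ((q : ℤ) - 1) ^ 2 ≠ 0 from pow_ne_zero _ (by omega)) ?_
    linear_combination 2 * hZ - ((q : ℤ) ^ 2 + 1) ^ 2 * hPz
  have hP0 : ∀ χ ∈ P, ∀ x, InE x → (χ : Cfsg.Sz F m → ℂ) x = 0 := fun χ hχ => (hPv χ hχ).2
  have hqv := h.card
  rw [← hqdef] at hqv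
  obtain ⟨X⟩ := exists_col h hm hne h1P hsP hone hstE hP0 hg (hN g hg) (by
    have : 2 ^ 3 ≤ 2 ^ (2 * m + 1) := Nat.pow_le_pow_right (by norm_num) (by omega)
    have : 2 ^ 2 ≤ 2 ^ (m + 1) := Nat.pow_le_pow_right (by norm_num) (by omega)
    omega)
  have key : (∃ χ ∈ R, w χ = a) ∧ (∃ χ ∈ R, w χ = b) ∧ (∃ χ ∈ R, 2 ∣ w χ) ∧
      ∀ χ ∈ R, 2 ∣ w χ → ((q - 1) * w χ).Coprime (q ^ 2 + 1) := by
    by_cases hm1 : m = 1
    · refine facts_small h hm hm1 hw ?_ ?_ X hW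
      · rw [← hadef, hga, hr, hqv, hm1]; rfl
      · rw [hm1] at hqv hr; norm_num at hqv hr; omega
    · have h4 : 4 * r ≤ q := by
        rw [hr, hqv, show (4 : ℕ) * 2 ^ (m + 1) = 2 ^ (m + 3) by ring]
        exact Nat.pow_le_pow_right (by norm_num) (by omega)
      have h8 : 2 ^ 3 ≤ r := Nat.pow_le_pow_right (by norm_num) (by omega)
      obtain ⟨Y⟩ := exists_col h hm hne h1P hsP hone hstE hP0 hg' (hN g' hg') (by omega)
      have := X.order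
      have := Y.order
      exact facts_large h hm hg hg' hw habq hsq (by omega) (by omega) X Y (by omega) (by omega) hW
  obtain ⟨⟨φa, hφa, hwa⟩, ⟨φb, hφb, hwb⟩, ⟨φe, hφe, hwe⟩, hcop⟩ := key
  obtain ⟨φp, hφp⟩ : P.Nonempty := Finset.card_pos.1 (by omega)
  refine ⟨a, b, habq, ⟨φp, (hPv φp hφp).1⟩, ⟨φa, by rw [hw φa hφa, hwa]⟩,
    ⟨φb, by rw [hw φb hφb, hwb]⟩, ⟨φe, _, hw φe hφe, hwe.mul_left _, dvd_mul_right _ _⟩,
    fun χ n hn h2 => ?_⟩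
  obtain ⟨k, hk⟩ := hqe
  by_cases hχ : χ ∈ R
  · have hn' : n = (q - 1) * w χ := by exact_mod_cast hn.symm.trans (hw χ hχ)
    subst hn'
    refine hcop χ hχ ((Nat.prime_two.dvd_mul.1 h2).resolve_left ?_)
    omega
  rw [hR, Finset.mem_sdiff, not_and, not_not] at hχ
  rcases Finset.mem_insert.1 (hχ (Finset.mem_univ _)) with rfl | hχ'
  · rw [hone] at hn
    have : n = 1 := by exact_mod_cast hn.symm
    omega
  rcases Finset.mem_insert.1 hχ' with rfl | hχ'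
  · rw [hst1] at hn
    have : n = q ^ 2 := by exact_mod_cast hn.symm
    rw [this]
    exact Nat.coprime_self_add_right.2 (Nat.coprime_one_right _)
  · have : n = q ^ 2 + 1 := by exact_mod_cast hn.symm.trans (hPv χ hχ').1
    rw [this, hk] at h2
    ring_nf at h2
    omega

end Cfsg.Agent.Lib.SzDegrees
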